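import Cfsg.Agent.GAL.C2.Lab
import Cfsg.Agent.GAL.Two.Stb
import Mathlib.Algebra.Category.Grp.Injective

/-!
# S4617 / S4618, characteristic 2: the Steinberg coordinates of a character (helper89, GAL)

`Cd D d e ζ J χ a` : the label of `χ` comes from a point of the torus with Steinberg coordinates `a : D.I → k`.  The odd
characters which are trivial on the centre correspond to the `F`-fixed points (`exists_cd`, `cd_unique`, `cd_eq`,
`exists_of_fix`); `cd_aut`, `cd_gal`, `cd_tw`, `cd_det` : automorphisms, the Galois action, linear characters.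
-/

set_option autoImplicit false
set_option maxHeartbeats 400000
set_option linter.unusedSectionVars false

namespace Cfsg.Agent.GAL.C2

open Cfsg CoxeterSystem Cfsg.Agent.Tits.Roots Cfsg.Agent.ChevalleyStructure.CoxeterGeom
open Cfsg.Agent.DL Cfsg.Agent.DL.PP Cfsg.Agent.DL.Uni Cfsg.Agent.DL.Mk Cfsg.Agent.ODD.C2 Cfsg.Agent.GAL.Two
open Cfsg.Agent.Characters.Core Cfsg.Agent.H601.K4 Cfsg.Agent.TAB.Use Matrix

theorem exists_J {K : Type} [Field K] {ζ : Kˣ} {n : ℕ} (hn : n ≠ 0) (hζ : IsPrimitiveRoot ζ n) :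
    ∃ J : Kˣ →* ℂˣ, IsPrimitiveRoot (J ζ) n := by
  have h0 := Complex.isPrimitiveRoot_exp n hn
  have hξ : IsPrimitiveRoot (h0.isUnit hn).unit n := IsPrimitiveRoot.coe_units_iff.1 h0
  let : DivisibleBy (Additive ℂˣ) ℤ := divisibleByOfSMulRightSurj _ _ fun h a => exists_zpow_eq h a.toMul
  obtain ⟨J, hJ⟩ := (Module.Baer.of_divisible (Additive ℂˣ)).extension_property_addMonoidHom
    (Subgroup.zpowers ζ).subtype.toAdditive Subtype.val_injective ((Subgroup.subtype _).toAdditive.comp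
      (hξ.zmodEquivZPowers.toAddMonoidHom.comp hζ.zmodEquivZPowers.symm.toAddMonoidHom))
  have h1 := DFunLike.congr_fun hJ (hζ.zmodEquivZPowers (1 : ℤ))
  simp only [AddMonoidHom.comp_apply, AddEquiv.coe_toAddMonoidHom, AddEquiv.symm_apply_apply] at h1
  simp only [IsPrimitiveRoot.zmodEquivZPowers_apply_coe_int, zpow_one] at h1
  exact ⟨J.toMultiplicative, (show J.toMultiplicative ζ = _ from h1) ▸ hξ⟩

section gen

variable {I R K : Type} [Fintype I] [Fintype R] [Field K]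

/-- the pull-back along `B` -/
def pb (B : Matrix I R ℤ) : (I → Kˣ) →* (R → Kˣ) := MonoidHom.pi fun r => chr (Bᵀ r)

theorem chr_pb (B : Matrix I R ℤ) (v : R → ℤ) (b : I → Kˣ) : chr v (pb B b) = chr (B *ᵥ v) b := by
  rw [show B *ᵥ v = ∑ r, v r • Bᵀ r from funext fun i => by simp [mulVec, dotProduct, mul_comm], chr_sum, chr_apply]
  exact Finset.prod_congr rfl fun r _ => (chr_zsmul _ _ _).symm

theorem ext_chr {c c' : R → Kˣ} (h : ∀ v, chr v c = chr v c') : c = c' := by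
  classical
  exact funext fun j => by rw [← chr_single j c, h, chr_single]

theorem tor_of [DecidableEq R] {B : Matrix R R ℤ} {c : R → Kˣ} (h : ∀ v, chr (B *ᵥ v) c = chr v c) {d e : ℕ}
    (hB : B ^ d = (((2 : ℕ) : ℤ) ^ e) • (1 : Matrix R R ℤ)) : c ^ (2 ^ e - 1) = 1 := by
  have h1 : ∀ m v, chr (B ^ m *ᵥ v) c = chr v c := fun m => by
    induction m with
    | zero => intro v; rw [pow_zero, one_mulVec]
    | succ m ih => intro v; rw [pow_succ', ← mulVec_mulVec, h, ih]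
  refine ext_chr fun v => mul_right_cancel (b := chr v c) ?_
  rw [map_pow, ← pow_succ, Nat.sub_add_cancel Nat.one_le_two_pow, map_one, one_mul]
  conv_rhs => rw [← h1 d v, hB, smul_mulVec, one_mulVec, chr_zsmul, ← Nat.cast_pow, zpow_natCast]

theorem chr_J (J : Kˣ →* ℂˣ) (v : R → ℤ) (c : R → Kˣ) : chr v (J.compLeft R c) = J (chr v c) := by
  simp only [chr_apply, map_prod, map_zpow]
  rfl

/-- fixed points in the Steinberg coordinates -/
def FixL (π : Equiv.Perm I) (ε : I → ℕ) (a : I → K) : Prop := ∀ i, a (π i) ^ 2 ^ ε i = a i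

variable [DecidableEq I]

/-- the action on the coweight lattice -/
def Ps (π : Equiv.Perm I) (ε : I → ℕ) : Matrix I I ℤ := of fun j i => if j = π i then 2 ^ ε i else 0

theorem Ps_single (π : Equiv.Perm I) (ε : I → ℕ) (i : I) :
    Ps π ε *ᵥ Pi.single i 1 = 2 ^ ε i • Pi.single (π i) 1 := funext fun j => by
  simp [Ps, Pi.single_apply]

theorem Ps_apply (π : Equiv.Perm I) (ε : I → ℕ) (v : I → ℤ) (i : I) : (Ps π ε *ᵥ v) (π i) = 2 ^ ε i * v i := by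
  simp [Ps, mulVec, dotProduct]

theorem pb_Ps (π : Equiv.Perm I) (ε : I → ℕ) (b : I → Kˣ) (i : I) : pb (Ps π ε) b i = b (π i) ^ 2 ^ ε i := by
  rw [← chr_single i (pb _ b), chr_pb, Ps_single, chr_nsmul, chr_single]

end gen

variable {k : Type} [Field k] [CharP k 2] {Y : Type} [Group Y] {N : Type} [Fintype N]
  [DecidableEq N] {ρ : Y →* GL N k} {F : MulAut Y} {G : Subgroup Y} [IsAlgClosed k] {D : Datum 2 ρ F G}
  {α : MulAut Y} {A : Matrix D.R D.R ℤ} {π : Equiv.Perm D.I} {ε : D.I → ℕ}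

theorem Wt_cw (i : D.I) : Wt D *ᵥ D.cw i = fun j => D.A i j := funext fun j =>
  (D.pair i (sr j)).trans ((pairing_single _ _ _ _).trans (mul_one _))

theorem Wt_Wm (u : D.W) : Wt D * D.Wm u = Wp D.cs D.h u * Wt D := by
  ext i a
  exact congrFun ((D.wt_act' u (sr i)).symm.trans (vecMul_Wt D _).symm) a

theorem Sym.wt_mul (h : Sym D α A π ε) : Wt D * A = Ps π ε * Wt D := by
  ext j a
  obtain ⟨i, rfl⟩ := π.surjective j
  exact (congrFun (h.wt i) a).trans (Ps_apply π ε ((Wt D)ᵀ a) i).symm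

theorem Sym.ps_wp (h : Sym D α A π ε) (i : D.I) :
    Ps π ε * Wp D.cs D.h (D.cs.simple i) = Wp D.cs D.h (D.cs.simple (π i)) * Ps π ε := by
  refine ext_of_mulVec_single fun j => ?_
  rw [← mulVec_mulVec, ← mulVec_mulVec, Wp_simple, Wp_simple, mulVec_sub, mulVec_smul, ← Wt_cw, ← Wt_cw, mulVec_mulVec,
    ← h.wt_mul, ← mulVec_mulVec, h.cw, mulVec_smul, smul_smul, Ps_apply, mul_comm]

theorem pb_inj (hZ : CZ D) : Function.Injective (pb (Wt D) : (D.I → kˣ) →* _) := by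
  obtain ⟨m, ϖ, hϖ⟩ := hZ
  refine (injective_iff_map_eq_one _).2 fun b hb => funext fun i => eq_one_of_pow (m := m) ?_
  have h1 := chr_pb (Wt D) (ϖ i) b
  rw [hb, map_one, Wt_pi hϖ, chr_zsmul, chr_single] at h1
  exact_mod_cast h1.symm

theorem exists_pb (hZ : CZ D) {c : D.R → kˣ} (h : ∀ v, Wt D *ᵥ v = 0 → chr v c = 1) : ∃ b, pb (Wt D) b = c := by
  obtain ⟨m, ϖ, hϖ⟩ := hZ
  choose b hb using fun i => exists_zpow_eq (n := 2 ^ m) (pow_ne_zero _ two_ne_zero) (chr (ϖ i) c)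
  refine ⟨b, ext_chr fun v => mul_inv_eq_one.1 (eq_one_of_pow (m := m) ?_)⟩
  have h1 := h (∑ i, (Wt D *ᵥ v) i • ϖ i - (2 ^ m : ℤ) • v) (by rw [mulVec_sub, mulVec_smul, Wt_sum hϖ, sub_self])
  rw [chr_sub, chr_sum, chr_zsmul] at h1
  rw [← h1, mul_pow, inv_pow, chr_pb, chr_apply, ← Finset.prod_pow]
  congr 1
  exact Finset.prod_congr rfl fun i _ => by
    rw [chr_zsmul, ← hb, ← zpow_natCast, ← _root_.zpow_mul, ← _root_.zpow_mul, mul_comm, Nat.cast_pow, Nat.cast_ofNat]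

variable (D)

/-- the level -/
structure Lev (d e : ℕ) (ζ : kˣ) (J : kˣ →* ℂˣ) : Prop where
  good : Good D
  lvl : Lvl D d e
  prim : IsPrimitiveRoot ζ (2 ^ e - 1)
  primJ : IsPrimitiveRoot (J ζ) (2 ^ e - 1)

/-- the label of a point of the torus -/
noncomputable def lc (J : kˣ →* ℂˣ) : (D.I → kˣ) →* (D.R → ℂˣ) := (J.compLeft _).comp (pb (Wt D))

/-- the Steinberg coordinates of a character -/
def Cd [Fintype (GF F G)] (d e : ℕ) (ζ : kˣ) (J : kˣ →* ℂˣ) (χ : GF F G → ℂ) (a : D.I → k) : Prop :=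
  ∃ b, b ^ (2 ^ e - 1) = 1 ∧ Lb D d ζ χ (lc D J b) ∧ ∀ i, st D.cs D.h i b = a i

variable {D} {d e : ℕ} {ζ : kˣ} {J : kˣ →* ℂˣ} {b b' : D.I → kˣ}

theorem two_pow_ne (he : 0 < e) : 2 ^ e - 1 ≠ 0 := Nat.sub_ne_zero_of_lt (Nat.one_lt_two_pow he.ne')

theorem exists_lev (h : Good D) : ∃ d e ζ J, Lev D d e ζ J := by
  obtain ⟨d, e, L⟩ := exists_lvl D
  obtain ⟨ζ, hζ⟩ := exists_prim (p := 2) (k := k) L.e_pos
  obtain ⟨J, hJ⟩ := exists_J (two_pow_ne L.e_pos) hζ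
  exact ⟨d, e, ζ, J, h, L, hζ, hJ⟩

theorem chr_lc (v : D.R → ℤ) (b : D.I → kˣ) : chr v (lc D J b) = J (chr (Wt D *ᵥ v) b) :=
  (chr_J J v _).trans (congrArg J (chr_pb _ v b))

theorem chr_lc_pb {B : Matrix D.R D.R ℤ} {Ψ : Matrix D.I D.I ℤ} (h : Wt D * B = Ψ * Wt D) (v : D.R → ℤ) (b : D.I → kˣ) :
    chr v (lc D J (pb Ψ b)) = chr (B *ᵥ v) (lc D J b) := by
  rw [chr_lc, chr_lc, chr_pb, mulVec_mulVec, mulVec_mulVec, h]

theorem map_tor {M M' : Type} [Monoid M] [Monoid M'] (f : M →* M') {x : M} {n : ℕ} (h : x ^ n = 1) : f x ^ n = 1 := by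
  rw [← map_pow, h, map_one]

namespace Lev

variable (V : Lev D d e ζ J)
include V

theorem inj {a a' : kˣ} (ha : a ^ (2 ^ e - 1) = 1) (ha' : a' ^ (2 ^ e - 1) = 1) (h : J a = J a') : a = a' := by
  have : NeZero (2 ^ e - 1) := ⟨two_pow_ne V.lvl.e_pos⟩
  obtain ⟨i, hi, rfl⟩ := V.prim.eq_pow_of_mem_rootsOfUnity ha
  obtain ⟨j, hj, rfl⟩ := V.prim.eq_pow_of_mem_rootsOfUnity ha'
  rw [V.primJ.pow_inj hi hj (by rwa [← map_pow, ← map_pow])]

theorem lc_inj (hb : b ^ (2 ^ e - 1) = 1) (hb' : b' ^ (2 ^ e - 1) = 1) (h : lc D J b = lc D J b') : b = b' :=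
  pb_inj V.good.cz (funext fun r => V.inj (congrFun (map_tor (pb (Wt D)) hb) r)
    (congrFun (map_tor (pb (Wt D)) hb') r) (congrFun h r))

theorem exists_lc {c : D.R → ℂˣ} (hc : c ^ (2 ^ e - 1) = 1) (h : ∀ v, Wt D *ᵥ v = 0 → chr v c = 1) :
    ∃ b, b ^ (2 ^ e - 1) = 1 ∧ lc D J b = c := by
  have : NeZero (2 ^ e - 1) := ⟨two_pow_ne V.lvl.e_pos⟩
  choose n _ hn using fun r => V.primJ.eq_pow_of_mem_rootsOfUnity (congrFun hc r)
  have h1 : J.compLeft _ (fun r => ζ ^ n r) = c := funext fun r => (map_pow J ζ _).trans (hn r)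
  have h2 : (fun r => ζ ^ n r) ^ (2 ^ e - 1) = 1 := funext fun r => by
    rw [Pi.pow_apply, ← pow_mul, mul_comm, pow_mul, V.prim.pow_eq_one, one_pow, Pi.one_apply]
  obtain ⟨b, hb⟩ := exists_pb V.good.cz (c := fun r => ζ ^ n r) fun v hv =>
    V.inj (map_tor _ h2) (one_pow _) (by rw [← chr_J, h1, h v hv, map_one])
  exact ⟨b, pb_inj V.good.cz (by rw [map_pow, hb, h2, map_one]), (congrArg _ hb).trans h1⟩

variable [Fintype (GF F G)] {χ χ' : GF F G → ℂ} {a a' : D.I → k}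

theorem tor {c : D.R → ℂˣ} (h : Lb D d ζ χ c) : c ^ (2 ^ e - 1) = 1 :=
  let ⟨w, hw⟩ := h.fx V.lvl V.prim
  tor_of hw (V.lvl.pow w)

theorem exists_cd (hχ : OddIrr χ) (hz : ∀ z : GF F G, (z : Y) ∈ Zc D → χ z = χ 1) : ∃ a, Cd D d e ζ J χ a := by
  obtain ⟨c, hc⟩ := exists_lb V.lvl V.prim V.good.qs V.good.cz V.good.hn hχ.1 hχ.2
  obtain ⟨b, h1, rfl⟩ := V.exists_lc (V.tor hc) fun v hv => lb_cen V.lvl V.prim hχ.1 hc V.good.qs hz hv
  exact ⟨_, b, h1, hc, fun _ => rfl⟩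

theorem cd_triv (hχ : IsIrrCharacter (GF F G) χ) (h : Cd D d e ζ J χ a) {z : GF F G} (hz : (z : Y) ∈ Zc D) :
    χ z = χ 1 := by
  obtain ⟨b, -, h1, -⟩ := h
  exact lb_triv V.lvl V.prim hχ h1 V.good.qs V.good.cz (fun v hv => by rw [chr_lc, hv, chr_zero, map_one]) hz

theorem cd_unique (hχ : IsIrrCharacter (GF F G) χ) (h : Cd D d e ζ J χ a) (h' : Cd D d e ζ J χ a') : a = a' := by
  obtain ⟨b, h1, h2, h3⟩ := h
  obtain ⟨b', h1', h2', h3'⟩ := h'
  obtain ⟨u, hu⟩ := h2.rel V.lvl V.prim hχ h2'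
  have h4 := V.lc_inj (map_tor _ h1') h1 (ext_chr fun v => (chr_lc_pb (Wt_Wm u) v b').trans (hu v))
  exact funext fun i => by rw [← h3, ← h3', st_congr D.cs D.h (fun v => by rw [← chr_pb, h4]) i]

theorem cd_eq (hχ : OddIrr χ) (hχ' : OddIrr χ') (h : Cd D d e ζ J χ a) (h' : Cd D d e ζ J χ' a) : χ = χ' := by
  obtain ⟨b, -, h2, h3⟩ := h
  obtain ⟨b', -, h2', h3'⟩ := h'
  obtain ⟨u, hu⟩ := st_inj D.cs D.h fun i => (h3 i).trans (h3' i).symm
  exact Lb.eq V.lvl V.prim V.good.qs V.good.cz V.good.hn hχ.1 hχ.2 hχ'.1 hχ'.2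
    (h2.of_rel (u := u) fun v => by rw [← chr_lc_pb (Wt_Wm u), chr_lc, chr_lc, chr_pb, hu]) h2'

omit V in
theorem cd_aut (hα : Sym D α A π ε) (h : Cd D d e ζ J χ a) :
    Cd D d e ζ J (fun g => χ (hα.au.aut g)) fun i => a (π i) ^ 2 ^ ε i := by
  obtain ⟨b, h1, h2, h3⟩ := h
  refine ⟨pb (Ps π ε) b, map_tor _ h1, ?_, fun i => ?_⟩
  · rw [show lc D J (pb (Ps π ε) b) = _ from ext_chr fun v => (chr_lc_pb hα.wt_mul v b).trans (chr_tr D A v _).symm]
    exact h2.aut hα.au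
  · rw [st_map D.cs D.h π ε _ (Ps_single π ε) hα.ps_wp (chr_pb _ · b), h3]

theorem cd_fix (hχ : IsIrrCharacter (GF F G) χ) (h : Cd D d e ζ J χ a) (hα : Sym D α A π ε)
    (h1 : ∀ g, χ (hα.au.aut g) = χ g) : FixL π ε a :=
  congrFun (V.cd_unique hχ (funext h1 ▸ cd_aut hα h :) h)

theorem cd_F (hχ : IsIrrCharacter (GF F G) χ) (h : Cd D d e ζ J χ a) : FixL D.σ (fun i => D.ex (sr i)) a :=
  V.cd_fix hχ h (Sym.self V.good.qs) fun g => congrArg χ (Subtype.ext g.2.2)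

theorem cd_inv (hχ : OddIrr χ) (h : Cd D d e ζ J χ a) (hα : Sym D α A π ε) (h1 : FixL π ε a) (g : GF F G) :
    χ (hα.au.aut g) = χ g :=
  congrFun (V.cd_eq (oddIrr_comp (f := hα.au.aut.toMonoidHom) hα.au.aut.surjective hχ) hχ
    (funext h1 ▸ cd_aut hα h :) h) g

theorem exists_of_fix (ha : FixL D.σ (fun i => D.ex (sr i)) a) : ∃ χ, OddIrr χ ∧ Cd D d e ζ J χ a := by
  have hF := Sym.self V.good.qs
  obtain ⟨b, hb⟩ := st_surj D.cs D.h a
  obtain ⟨u, hu⟩ := st_inj D.cs D.h (b := b) (b' := pb (Ps D.σ fun i => D.ex (sr i)) b) fun i => by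
    rw [st_map D.cs D.h _ _ _ (Ps_single _ _) hF.ps_wp (chr_pb _ · b), hb, hb, ha]
  have h1 : ∀ v, chr (Wt D *ᵥ (D.Wm (D.Fw u) * D.Mx) *ᵥ v) b = chr (Wt D *ᵥ v) b := fun v => by
    rw [← hu (Wt D *ᵥ v), chr_pb, ← D.Mx_Wm, mulVec_mulVec, mulVec_mulVec, mulVec_mulVec, ← Matrix.mul_assoc, hF.wt_mul,
      Matrix.mul_assoc, Wt_Wm, Matrix.mul_assoc]
  obtain ⟨χ, h2, h3, h4⟩ := exists_of_fx V.lvl V.prim V.good.cz (c := lc D J b) (w := D.Fw u) fun v => by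
    rw [chr_lc, chr_lc, h1]
  refine ⟨χ, ⟨h2, h3⟩, b, pb_inj V.good.cz ?_, h4, hb⟩
  rw [map_pow, map_one]
  exact tor_of (fun v => by rw [chr_pb, chr_pb, h1]) (V.lvl.pow _)

theorem cd_gal {σ : ℂ ≃+* ℂ} (hσ : Sig σ) (hχ : IsCharacter (GF F G) χ) (h : Cd D d e ζ J χ a) :
    Cd D d e ζ J (fun g => σ (χ g)) fun i => a i ^ 2 := by
  obtain ⟨b, h1, h2, h3⟩ := h
  refine ⟨b ^ 2, by rw [← pow_mul, mul_comm, pow_mul, h1, one_pow], ?_, fun i => ?_⟩
  · convert h2.gal σ hχ using 1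
    exact funext fun r => Units.ext (by
      rw [map_pow, Pi.pow_apply, Units.val_pow_eq_pow_val]
      exact (hσ.2 _ _ (Nat.Even.sub_odd Nat.one_le_two_pow (Nat.even_pow.2 ⟨even_two, V.lvl.e_pos.ne'⟩) odd_one)
        (congrArg Units.val (congrFun (V.tor h2) r))).symm)
  · beta_reduce
    rw [← h3, st, st, CharTwo.sum_sq]
    simp only [map_pow, Units.val_pow_eq_pow_val]

theorem cd_mul {z : D.I → kˣ} (hb : b ^ (2 ^ e - 1) = 1) (hz : z ^ (2 ^ e - 1) = 1) (h1 : ∀ j, chr (D.A j) z = 1)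
    (h2 : Lb D d ζ χ (lc D J b * lc D J z)) : Cd D d e ζ J χ fun i => z i * st D.cs D.h i b :=
  ⟨b * z, by rw [mul_pow, hb, hz, mul_one], by rwa [map_mul], fun i => st_mul D.cs D.h h1 i b⟩

theorem cd_tw (h : Cd D d e ζ J χ a) (β : GF F G →* ℂˣ) (hβ : ∀ g : GF F G, (g : Y) ∈ Gd D → β g = 1)
    (hu : ∀ g : GF F G, IsUni 2 (g : Y) → β g = 1) (hχ : IsIrrCharacter (GF F G) χ)
    (hz : ∀ z : GF F G, (z : Y) ∈ Zc D → β z * χ z = χ 1) :
    ∃ z : D.I → kˣ, (∀ j, chr (D.A j) z = 1) ∧ Cd D d e ζ J (fun g => β g * χ g) fun i => z i * a i := by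
  obtain ⟨b, h1, h2, h3⟩ := h
  obtain ⟨c, h4, h5, -⟩ := lb_tw V.lvl V.prim h2 β hβ hu
  have h6 := V.tor h5
  rw [mul_pow, map_tor _ h1, one_mul] at h6
  obtain ⟨z, h7, rfl⟩ := V.exists_lc h6 fun v hv => by
    have h8 := lb_cen V.lvl V.prim (ODD.Red.isIrr_lin_mul β hχ) h5 V.good.qs
      (fun z h => by rw [hz z h, map_one, Units.val_one, one_mul]) hv
    rwa [map_mul, chr_lc, hv, chr_zero, map_one, one_mul] at h8
  have h8 : ∀ j, chr (D.A j) z = 1 := fun j =>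
    V.inj (map_tor _ h7) (one_pow _) (by rw [map_one, ← h4 j, chr_lc, Wt_cw])
  exact ⟨z, h8, funext h3 ▸ V.cd_mul h1 h7 h8 h5⟩

theorem cd_det {X : Type} [Group X] {ι : X →* Y} (hD : Det D ι) (hsc : ∀ y ∈ GF F G, y ∈ Gd D → y ∈ ι.range)
    (h : Cd D d e ζ J χ a) {z : D.I → kˣ} (h1 : ∀ j, chr (D.A j) z = 1)
    (h2 : FixL D.σ (fun i => D.ex (sr i)) fun i => (z i : k)) : ∃ β : GF F G →* ℂˣ,
      (∀ g : GF F G, (g : Y) ∈ ι.range → β g = 1) ∧ Cd D d e ζ J (fun g => β g * χ g) fun i => z i * a i := by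
  obtain ⟨δ, ν, v, ω, m, d1, d2, d3, d4, -, d6⟩ := hD.ex
  obtain ⟨b, b1, b2, b3⟩ := h
  have : NeZero (2 ^ e - 1) := ⟨two_pow_ne V.lvl.e_pos⟩
  have hM := V.lvl.pow 1
  rw [D.Wm_one, one_mul] at hM
  have z1 : ∀ u, chr (D.Mx *ᵥ u) (pb (Wt D) z) = chr u (pb (Wt D) z) := fun u => by
    rw [chr_pb, chr_pb, mulVec_mulVec, (Sym.self V.good.qs).wt_mul, ← mulVec_mulVec, ← chr_pb (Ps _ _),
      show pb (Ps _ _) z = z from funext fun i => (pb_Ps _ _ z i).trans (Units.ext (h2 i))]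
  have z2 := tor_of z1 hM
  obtain ⟨s, -, hs⟩ := V.prim.eq_pow_of_mem_rootsOfUnity (map_tor (chr v) z2)
  have z3 : pb (Wt D) z = coch ν (ζ ^ s) := funext fun r => by
    rw [← chr_single r (pb _ z), show Pi.single r 1 = ∑ i, ω i r • D.cw i + ν r • v from funext fun j => by
      simpa [Pi.single_apply, eq_comm] using (d6 r j).symm, chr_add, chr_sum, chr_zsmul, ← hs, Finset.prod_eq_one, one_mul,
      coch_apply]
    exact fun i _ => by rw [chr_zsmul, chr_pb, Wt_cw, h1, _root_.one_zpow]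
  have n1 : ν ᵥ* D.Mx = m • ν := chr_inj (k := k) fun c => by rw [← chr_mon, ← d2, ← D.F_τ, d1, d2, chr_zsmul]
  have n2 : ∀ j, ν ᵥ* D.Mx ^ j = m ^ j • ν := fun j => by
    induction j with
    | zero => simp
    | succ j ih => rw [pow_succ, ← vecMul_vecMul, ih, smul_vecMul, n1, smul_smul, pow_succ]
  have n3 : (∑ i ∈ Finset.range d, m ^ i) * (m - 1) = (2 ^ e - 1 : ℕ) := by
    have := congrArg (· ⬝ᵥ v) (n2 d)
    simp only [hM, vecMul_smul, vecMul_one, smul_dotProduct, d4, smul_eq_mul, mul_one] at this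
    rw [geom_sum_mul, ← this, Nat.cast_sub Nat.one_le_two_pow, Nat.cast_pow, Nat.cast_one]
  obtain ⟨x, hx⟩ : ∑ i ∈ Finset.range d, m ^ i ∣ s := by
    refine Int.dvd_of_mul_dvd_mul_right (a := m - 1) (fun e0 => NeZero.ne (2 ^ e - 1) ?_) ?_
    · rw [e0, mul_zero] at n3
      exact_mod_cast n3.symm
    · have := z1 v
      rw [← hs, z3, chr_coch, show ∑ j, (D.Mx *ᵥ v) j * ν j = m by
        rw [← mul_one m, ← d4, ← smul_eq_mul, ← smul_dotProduct, ← n1, ← dotProduct_mulVec, dotProduct_comm]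
        rfl] at this
      rw [n3, ← V.prim.zpow_eq_one_iff_dvd, _root_.zpow_mul, zpow_natCast, _root_.zpow_sub_one, this, mul_inv_cancel]
  have n4 : ∀ j y, δ ((F ^ j) y) = δ y ^ m ^ j := fun j y => by
    induction j with
    | zero => simp
    | succ j ih => rw [pow_succ', MulAut.mul_apply, d1, ih, ← _root_.zpow_mul, pow_succ]
  have n5 : ∀ j y, δ (nrm F j y) = δ y ^ ∑ i ∈ Finset.range j, m ^ i := fun j y => by
    induction j with
    | zero => simp [nrm_zero]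
    | succ j ih => rw [nrm_succ, map_mul, ih, n4, Finset.sum_range_succ, _root_.zpow_add]
  let β : GF F G →* ℂˣ := J.comp ((zpowGroupHom x).comp (δ.comp (GF F G).subtype))
  have e1 : ∀ g : GF F G, δ g = 1 → β g = 1 := fun g hg => by
    simp [β, hg]
  have e2 : ∀ g : GF F G, (g : Y) ∈ ι.range → β g = 1 := fun g hg => e1 g ((d3 g g.2).1 hg)
  obtain ⟨c, -, h5, y, hy, w, hw, h6⟩ := lb_tw V.lvl V.prim b2 β (fun g hg => e2 g (hsc g g.2 hg))
    fun g ⟨n, hn⟩ => e1 g (eq_one_of_pow (m := n) (by rw [← map_pow, ← hn, pow_orderOf_eq_one, map_one]))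
  obtain rfl : lc D J z = c := ext_chr fun u => by
    rw [← h6 u ⟨_, (nrm_mem V.lvl V.prim hy hw u).2⟩ rfl, chr_lc, ← chr_pb, z3, chr_coch]
    refine congrArg J ?_
    show _ = δ (nrm F d _) ^ x
    rw [n5, map_mul, map_mul, map_inv, mul_inv_cancel_comm, d2, chr_coch, ← zpow_natCast, hx, ← _root_.zpow_mul, ← _root_.zpow_mul,
      ← _root_.zpow_mul, mul_comm]
    simp only [mul_comm]
  exact ⟨β, e2, funext b3 ▸ V.cd_mul b1 (pb_inj V.good.cz (by rw [map_pow, z2, map_one])) h1 h5⟩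

end Lev

end Cfsg.Agent.GAL.C2
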