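import Cfsg.Agent.GAL.Two.Red
import Cfsg.Agent.ODD.C2.Desc
import Cfsg.Agent.DL.PP.Cor
import Mathlib.GroupTheory.FiniteAbelian.Duality

/-!
# S4617 / S4618, characteristic 2: Clifford theory (helper89, GAL)

`ι : S →* K` is injective.

* `exists_up` : an invariant odd character of `K` over an invariant odd character of `S` (odd index);
* `exists_cj`, `exists_tw` : two constituents are conjugate, two characters over `θ` differ by a linear character;
* `orbit` : if the mean over the regular elements of `U` has absolute value one, the constituents differ on `U`.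
-/

set_option autoImplicit false
set_option maxHeartbeats 400000

namespace Cfsg.Agent.GAL.C2

open Cfsg Cfsg.Agent.H601.K4 Cfsg.Agent.ODD.Red Cfsg.Agent.Characters Cfsg.Agent.Characters.Core
open Cfsg.Agent.H40.OC
open scoped ComplexConjugate

section

variable {K S : Type} [Group K] [Group S] [Fintype K] [Fintype S] {ι : S →* K} (hι : Function.Injective ι)

/-- the transport to the range -/
noncomputable def tr (θ : S → ℂ) : ι.range → ℂ := fun n => θ ((MonoidHom.ofInjective hι).symm n)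

omit [Fintype K] [Fintype S] in
theorem tr_apply (θ : S → ℂ) (s : S) (h : ι s ∈ ι.range) : tr hι θ ⟨ι s, h⟩ = θ s :=
  congrArg θ ((MonoidHom.ofInjective hι).symm_apply_apply s)

omit [Fintype K] [Fintype S] in
theorem tr_irr {θ : S → ℂ} (h : IsIrrCharacter S θ) : IsIrrCharacter ι.range (tr hι θ) :=
  isIrr_comp' (MonoidHom.ofInjective hι).symm.toMonoidHom (MonoidHom.ofInjective hι).symm.surjective h

omit [Fintype K] in
theorem inner_tr [Fintype ι.range] (χ : K → ℂ) (θ : S → ℂ) :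
    classInner (fun n : ι.range => χ n) (tr hι θ) = classInner (fun s => χ (ι s)) θ := by
  rw [← Clifford.classInner_comp_mulEquiv (MonoidHom.ofInjective hι)]
  congr 1
  exact funext fun s => tr_apply hι θ s _

include hι

theorem exists_up (ho : Odd ι.range.index) {θ : S → ℂ} (hθ : OddIrr θ) {Γ : Type} [Group Γ] (hΓ : IsPGroup 2 Γ)
    (φ : Γ →* MulAut K) (h : ∀ γ s, ∃ s', φ γ (ι s) = ι s' ∧ θ s' = θ s) :
    ∃ χ, OddIrr χ ∧ classInner (fun s => χ (ι s)) θ ≠ 0 ∧ ∀ γ k, χ (φ γ k) = χ k := by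
  have := Fintype.ofFinite ι.range
  have h0 := tr_irr hι hθ.1
  have h1 := Brauer.isCharacter_indFun ι.range (isIrr_isCharacter h0)
  have h2 : Odd (charDegree (indFun ι.range (tr hι θ))) := by
    rw [charDegree_of (n := ι.range.index * charDegree θ) (by
      rw [CharactersDeep.NormalInd.indFun_one, Nat.cast_mul, ← apply_one (isIrr_isCharacter hθ.1)]
      exact congrArg _ (congrArg θ (map_one _)))]
    exact ho.mul (odd_iff'.2 hθ.2)
  have h3 : ∀ γ y, extendByZero ι.range (tr hι θ) (φ γ y) = extendByZero ι.range (tr hι θ) y := by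
    intro γ y
    by_cases hy : y ∈ ι.range
    · obtain ⟨s, rfl⟩ := hy
      obtain ⟨s', h4, h5⟩ := h γ s
      rw [h4, extendByZero_of_mem ι.range _ ⟨s', rfl⟩, extendByZero_of_mem ι.range _ ⟨s, rfl⟩]
      exact (tr_apply hι θ s' _).trans (h5.trans (tr_apply hι θ s _).symm)
    · rw [extendByZero_of_notMem _ _ hy, extendByZero_of_notMem]
      rintro ⟨s, hs⟩
      obtain ⟨s', h4, -⟩ := h γ⁻¹ s
      rw [hs, map_inv, MulAut.inv_apply_self] at h4
      exact hy ⟨s', h4.symm⟩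
  obtain ⟨χ, h4, h5⟩ := exists_OC_inv h1 h2 hΓ φ fun γ k => by
    rw [indFun_apply, indFun_apply, ← Equiv.sum_comp (φ γ).toEquiv]
    refine congrArg _ (Finset.sum_congr rfl fun x _ => ?_)
    rw [← h3 γ (x⁻¹ * k * x), map_mul, map_mul, map_inv]
    rfl
  exact ⟨χ, ⟨h4.1, odd_iff'.1 h4.2.1⟩, inner_tr hι χ θ ▸ ODD.C2.inner_of_ind _ h4.1 h4.ne_zero, h5⟩

theorem exists_cj [ι.range.Normal] {χ : K → ℂ} (hχ : IsIrrCharacter K χ) {θ η : S → ℂ} (hθ : IsIrrCharacter S θ)
    (hη : IsIrrCharacter S η) (h1 : classInner (fun s => χ (ι s)) θ ≠ 0) (h2 : classInner (fun s => χ (ι s)) η ≠ 0) :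
    ∃ k : K, ∀ s s', ι s' = k * ι s * k⁻¹ → η s = θ s' := by
  have := Fintype.ofFinite ι.range
  obtain ⟨k, hk⟩ := Clifford.exists_conj_of_constituents ι.range hχ (tr_irr hι hθ) (tr_irr hι hη)
    (by rwa [inner_tr]) (by rwa [inner_tr])
  refine ⟨k, fun s s' e => ?_⟩
  rw [← tr_apply hι η s ⟨s, rfl⟩, hk, ← tr_apply hι θ s' ⟨s', rfl⟩]
  exact congrArg (tr hι θ) (Subtype.ext e.symm)

theorem exists_tw [ι.range.Normal] (hab : ∀ a b : K, (a * b)⁻¹ * (b * a) ∈ ι.range) {χ ψ : K → ℂ}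
    (hχ : IsIrrCharacter K χ) (hψ : IsIrrCharacter K ψ) {θ : S → ℂ} (hθ : IsIrrCharacter S θ)
    (h1 : classInner (fun s => χ (ι s)) θ ≠ 0) (h2 : classInner (fun s => ψ (ι s)) θ ≠ 0) :
    ∃ β : K →* ℂˣ, (∀ s, β (ι s) = 1) ∧ ∀ g, ψ g = β g * χ g := by
  classical
  let : CommGroup (K ⧸ ι.range) := { (inferInstance : Group (K ⧸ ι.range)) with
    mul_comm := fun a b => QuotientGroup.induction_on a fun a => QuotientGroup.induction_on b fun b =>
      QuotientGroup.eq.2 (hab a b) }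
  have : NeZero ((Monoid.exponent (K ⧸ ι.range) : ℕ) : ℂ) := ⟨Nat.cast_ne_zero.2 Monoid.exponent_ne_zero_of_finite⟩
  have : Finite ((K ⧸ ι.range) →* ℂˣ) :=
    Finite.of_equiv _ (CommGroup.monoidHom_mulEquiv_of_hasEnoughRootsOfUnity (K ⧸ ι.range) ℂ).some.symm.toEquiv
  have := Fintype.ofFinite ((K ⧸ ι.range) →* ℂˣ)
  have h3 := DL.PP.inner_ne_zero (isCharacter_comp' ι (isIrr_isCharacter hχ))
    (isCharacter_comp' ι (isIrr_isCharacter hψ)) hθ h1 h2
  have h4 : ∀ g : K, ∑ β : (K ⧸ ι.range) →* ℂˣ, ((β g : ℂˣ) : ℂ) =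
      if g ∈ ι.range then (Fintype.card ((K ⧸ ι.range) →* ℂˣ) : ℂ) else 0 := by
    intro g
    split_ifs with hg
    · simp [(QuotientGroup.eq_one_iff g).2 hg]
    · obtain ⟨β, hβ⟩ := CommGroup.exists_apply_ne_one_of_hasEnoughRootsOfUnity (K ⧸ ι.range) ℂ
        (a := (g : K ⧸ ι.range)) fun e => hg ((QuotientGroup.eq_one_iff g).1 e)
      refine sum_hom_units_eq_zero ((Units.coeHom ℂ).comp (MonoidHom.eval (g : K ⧸ ι.range))) fun e => hβ ?_
      exact Units.ext (DFunLike.congr_fun e β)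
  by_contra h5
  have h6 : ∀ β : (K ⧸ ι.range) →* ℂˣ, classInner (fun g : K => ((β g : ℂˣ) : ℂ) * χ g) ψ = 0 := fun β =>
    classInner_irr_ne (isIrr_lin_mul (β.comp (QuotientGroup.mk' _)) hχ) hψ fun e =>
      h5 ⟨β.comp (QuotientGroup.mk' _), fun s => by
        rw [MonoidHom.comp_apply, QuotientGroup.mk'_apply, (QuotientGroup.eq_one_iff (N := ι.range) (ι s)).2 ⟨s, rfl⟩,
          map_one],
        fun g => (congrFun e g).symm⟩
  have h7 : ∑ β : (K ⧸ ι.range) →* ℂˣ, ∑ g : K, ((β g : ℂˣ) : ℂ) * χ g * conj (ψ g) = 0 :=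
    Finset.sum_eq_zero fun β _ => (mul_eq_zero.1 (h6 β)).resolve_left (inv_ne_zero card_ne_zero_complex)
  rw [Finset.sum_comm] at h7
  simp only [mul_assoc, ← Finset.sum_mul, h4, ite_mul, zero_mul] at h7
  rw [← Finset.sum_filter, ← Finset.mul_sum, mul_eq_zero, Nat.cast_eq_zero] at h7
  refine h3 ?_
  rw [classInner_def, Finset.sum_bij (t := Finset.univ.filter (· ∈ ι.range)) (g := fun g => χ g * conj (ψ g))
    (fun s _ => ι s) (fun s _ => by simp) (fun _ _ _ _ e => hι e) (fun g hg => by simpa using hg) fun _ _ => rfl,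
    h7.resolve_left Fintype.card_ne_zero, mul_zero]

end

theorem sum_coset {T : Type} [Group T] [Fintype T] (L : Subgroup T) [Fintype (T ⧸ L)] (g : T → ℂ)
    (h : ∀ t, ∀ l ∈ L, g (t * l) = g t) : ∑ t, g t = Nat.card L * ∑ q : T ⧸ L, g q.out := by
  classical
  have := Fintype.ofFinite L
  have hb : Function.Bijective fun x : (T ⧸ L) × L => x.1.out * x.2 := by
    refine ⟨fun x y e => ?_, fun t => ?_⟩
    · have e1 : x.1 = y.1 := by
        simpa using congrArg (fun t : T => (t : T ⧸ L)) e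
      exact Prod.ext e1 (Subtype.ext (mul_left_cancel (a := x.1.out) (by simpa only [e1] using e)))
    · obtain ⟨l, hl⟩ := QuotientGroup.mk_out_eq_mul L t
      exact ⟨(t, l⁻¹), by simp [hl]⟩
  rw [← hb.sum_comp, Fintype.sum_prod_type, Finset.mul_sum]
  refine Finset.sum_congr rfl fun q _ => ?_
  rw [Nat.card_eq_fintype_card, ← nsmul_eq_mul, ← Finset.card_univ, ← Finset.sum_const]
  exact Finset.sum_congr rfl fun l _ => h _ _ l.2

/-- **the constituents differ on `U`** -/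
theorem orbit {H S I : Type} [Group H] [Group S] [Finite H] [Fintype S] [Fintype I] {U T : Subgroup H} [Fintype U]
    {D : I → Subgroup H} (hS : Sys U T D) {lam : I → (↥U →* ℂˣ)} (hl : Lam U D lam) (κ : H →* MulAut S)
    (j : U →* S) (hj : ∀ t ∈ T, ∀ u u' : U, (u' : H) = t * u * t⁻¹ → κ t (j u) = j u') {χ : H → ℂ}
    (hm : Complex.normSq (mr U D χ) = 1) {X : S → ℂ} (hX : IsCharacter S X) (hχ : ∀ u : U, χ u = X (j u))
    {θ : S → ℂ} (hθ : IsIrrCharacter S θ) (hinv : ∀ t ∈ T, ∀ s, X (κ t s) = X s)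
    (hcon : ∀ η, IsIrrCharacter S η → classInner X η ≠ 0 → ∃ t ∈ T, ∀ s, η s = θ (κ t s)) {t : H} (ht : t ∈ T)
    (h : ∀ u, θ (κ t (j u)) = θ (j u)) (s : S) : θ (κ t s) = θ s := by
  classical
  have := Fintype.ofFinite T
  have := @Fintype.ofFinite _ (finite_irr (G := S))
  let St : Subgroup T :=
    { carrier := {t | ∀ s, θ (κ t s) = θ s}
      one_mem' := fun s => by simp
      mul_mem' := fun {a b} ha hb s => by rw [Subgroup.coe_mul, map_mul, MulAut.mul_apply, ha, hb]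
      inv_mem' := fun {a} ha s => by rw [← ha, Subgroup.coe_inv, map_inv, MulAut.apply_inv_self] }
  have cj : ∀ (a : T) (u : U), ∃ u' : U, (u' : H) = a * u * (a : H)⁻¹ := fun a u => ⟨⟨_, hS.conj_U' a.2 u.2⟩, rfl⟩
  let KU : Subgroup T :=
    { carrier := {t | ∀ u, θ (κ t (j u)) = θ (j u)}
      one_mem' := fun s => by simp
      mul_mem' := fun {a b} ha hb u => by
        obtain ⟨u', hu⟩ := cj b u
        rw [Subgroup.coe_mul, map_mul, MulAut.mul_apply, hj _ b.2 u u' hu, ha, ← hj _ b.2 u u' hu, hb]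
      inv_mem' := fun {a} ha u => by
        obtain ⟨u', hu⟩ := cj a⁻¹ u
        rw [hj _ a⁻¹.2 u u' hu, ← ha, ← hj _ a⁻¹.2 u u' hu, Subgroup.coe_inv, map_inv, MulAut.apply_inv_self] }
  have hle : St ≤ KU := fun a ha u => ha _
  have := Fintype.ofFinite (T ⧸ St)
  have := Fintype.ofFinite (T ⧸ KU)
  have hirr : ∀ a : T, IsIrrCharacter S fun s => θ (κ (a⁻¹ : T) s) := fun a =>
    isIrr_comp' (κ (a⁻¹ : T)).toMonoidHom (κ _).surjective hθ
  obtain ⟨e, he⟩ := classInner_isNat hX (isIrr_isCharacter hθ)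
  have h1 : ∀ a : T, classInner X (fun s => θ (κ (a⁻¹ : T) s)) = e := fun a => by
    rw [← he, ← Clifford.classInner_comp_mulEquiv (κ (a⁻¹ : T)) X θ]
    congr 1
    exact funext fun s => (hinv _ a⁻¹.2 s).symm
  have h2 : ∀ a b : T, (fun s => θ (κ (a⁻¹ : T) s)) = (fun s => θ (κ (b⁻¹ : T) s)) → (a : T ⧸ St) = b := by
    intro a b hab
    refine QuotientGroup.eq.2 fun s => ?_
    have := congrFun hab (κ b s)
    simp only [Subgroup.coe_inv, map_inv, MulAut.inv_apply_self] at this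
    rwa [Subgroup.coe_mul, map_mul, MulAut.mul_apply, Subgroup.coe_inv, map_inv]
  have h3 : ∀ (a : T), ∀ l ∈ St, ∀ s, θ (κ ((a * l)⁻¹ : T) s) = θ (κ (a⁻¹ : T) s) := fun a l hl s => by
    rw [mul_inv_rev, Subgroup.coe_mul, map_mul, MulAut.mul_apply, St.inv_mem hl]
  have h4 : X = (e : ℂ) • ∑ q : T ⧸ St, fun s => θ (κ (q.out⁻¹ : T) s) := by
    have hc : IsCharacter S (∑ q : T ⧸ St, fun s => θ (κ (q.out⁻¹ : T) s)) :=
      isCharacter_sum _ fun q _ => isIrr_isCharacter (hirr _)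
    obtain ⟨m, hm⟩ := exists_nat_comb hX
    obtain ⟨m', hm'⟩ := exists_nat_comb hc
    have h5 : ∀ η : IrrCharacter S, (m η : ℂ) = e * m' η := by
      intro η
      rw [← classInner_sum_nsmul_irr m η, ← hm, ← classInner_sum_nsmul_irr m' η, ← hm', classInner_sum_left]
      by_cases h6 : ∃ a : T, (fun s => θ (κ (a⁻¹ : T) s)) = η
      · obtain ⟨a, ha⟩ := h6
        obtain ⟨l, hl⟩ := QuotientGroup.mk_out_eq_mul St a
        rw [← ha, h1, Finset.sum_eq_single (a : T ⧸ St), hl, funext (h3 a l l.2), classInner_irr_self (hirr a), mul_one]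
        · exact fun q _ hq => classInner_irr_ne (hirr _) (hirr a) fun e' => hq (q.out_eq'.symm.trans (h2 _ _ e'))
        · simp
      · rw [Finset.sum_eq_zero fun q _ => classInner_irr_ne (hirr _) η.2 fun e' => h6 ⟨_, e'⟩, mul_zero]
        by_contra h7
        obtain ⟨a, ha, h8⟩ := hcon η η.2 h7
        exact h6 ⟨⟨a, ha⟩⁻¹, funext fun s => by rw [inv_inv, h8]⟩
    rw [hm, hm', Finset.smul_sum]
    refine Finset.sum_congr rfl fun η _ => ?_
    rw [← Nat.cast_smul_eq_nsmul ℂ, ← Nat.cast_smul_eq_nsmul ℂ, smul_smul, h5]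
  let φ : U → ℂ := ∑ q : T ⧸ KU, fun u => θ (κ (q.out⁻¹ : T) (j u))
  have h5 : ∀ u : U, (Nat.card St : ℂ) * χ u = e * Nat.card KU * φ u := by
    intro u
    have h6 := sum_coset St (fun a => θ (κ (a⁻¹ : T) (j u))) fun a l hl => h3 a l hl _
    have h7 := sum_coset KU (fun a => θ (κ (a⁻¹ : T) (j u))) fun a l hl => by
      obtain ⟨u', hu⟩ := cj a⁻¹ u
      rw [mul_inv_rev, Subgroup.coe_mul, map_mul, MulAut.mul_apply, hj _ a⁻¹.2 u u' hu, KU.inv_mem hl]
    rw [hχ, h4, Pi.smul_apply, smul_eq_mul, Finset.sum_apply, mul_left_comm, ← h6, h7, mul_assoc]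
    simp only [φ, Finset.sum_apply]
  have hSt : (Nat.card St : ℂ) ≠ 0 := card_ne_zero_complex
  have hKU : (Nat.card KU : ℂ) ≠ 0 := card_ne_zero_complex
  have h6 : (Nat.card St : ℂ) * mr U D χ = e * Nat.card KU * mr U D (extendByZero U φ) := by
    rw [mr_def, mr_def, ← mul_div_assoc, ← mul_div_assoc, Finset.mul_sum, Finset.mul_sum]
    exact congrArg (· / _) (Finset.sum_congr rfl fun u _ => by rw [h5, extendByZero_of_mem _ _ u.2])
  have he0 : (e : ℂ) ≠ 0 := fun e0 => by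
    rw [e0, zero_mul, zero_mul, mul_eq_zero, or_iff_right hSt] at h6
    rw [h6, map_zero] at hm
    exact zero_ne_one hm
  obtain ⟨m, -, hc⟩ := mr_isInt hS hl (χ := extendByZero U φ) (by
      rw [show (fun u : U => extendByZero U φ u) = φ from funext fun u => extendByZero_of_mem _ _ u.2]
      exact isCharacter_sum _ fun q _ => isCharacter_comp' j (isIrr_isCharacter (hirr _))) (by
      intro a ha u hu
      rw [extendByZero_of_mem _ _ hu, extendByZero_of_mem _ _ (hS.conj_U ha hu)]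
      refine mul_left_cancel₀ (mul_ne_zero he0 hKU) ?_
      rw [← h5, ← h5, hχ, hχ, ← hj _ (inv_mem ha) ⟨u, hu⟩ _ (by rw [inv_inv]), hinv _ (inv_mem ha)])
  generalize (∑ J : Finset I, _ : ℤ) = c at hc
  have h7 := congrArg Complex.normSq h6
  rw [hc, map_mul, map_mul, map_mul, hm, Complex.normSq_natCast, Complex.normSq_natCast, Complex.normSq_natCast,
    Complex.normSq_intCast, mul_one] at h7
  have h8 : (Nat.card St : ℤ) * Nat.card St = (e * Nat.card KU * c) * (e * Nat.card KU * c) := by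
    have : ((Nat.card St : ℤ) * Nat.card St : ℝ) = (e * Nat.card KU * c) * (e * Nat.card KU * c) := by
      push_cast
      rw [h7]
      ring
    exact_mod_cast this
  have h9 : Nat.card KU ∣ Nat.card St := by
    rw [← Int.natCast_dvd_natCast]
    rcases mul_self_eq_mul_self_iff.1 h8 with h9 | h9 <;> rw [h9]
    · exact ⟨e * c, by ring⟩
    · exact ⟨-(e * c), by ring⟩
  have h10 := Subgroup.eq_of_le_of_card_ge hle (Nat.le_of_dvd Nat.card_pos h9)
  exact (h10 ▸ (h : (⟨t, ht⟩ : T) ∈ KU) : (⟨t, ht⟩ : T) ∈ St) s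

end Cfsg.Agent.GAL.C2
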