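import Cfsg.Agent.GAL.Two.Red
import Cfsg.Agent.ODD.C2.MnFin
import Cfsg.Agent.DL.Tw.Emb

/-!
# S4617 / S4618, characteristic 2: the interface (helper89, GAL)

`D` is a datum in characteristic 2, `ι : X →* Y` embeds a finite group as a normal subgroup of odd index of `G^F`
and `pr : X →* S` is the quotient map modulo the centre.

* `Sym D α A π ε` : the automorphism `α` commutes with `F` and maps the simple root group `i` to `π i` by `u ↦ u ^ 2 ^ ε i`;
* `Ind ι pr α a` : `α` induces the automorphism `a` of `S`;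
* `Md D ι pr` : the model; `Sep`, `Det`, `Br` : the two ways to treat the centre; `Sit` : the whole situation;
* `GenBox` : the generic theorem; `Box0`, `Box1`, `Box2`, `Box3` : the forms used by the families.
-/

set_option autoImplicit false
set_option maxHeartbeats 400000
set_option linter.unusedSectionVars false

namespace Cfsg.Agent.GAL.C2

open Cfsg Cfsg.Agent.DL Cfsg.Agent.DL.PP Cfsg.Agent.ODD.C2 Cfsg.Agent.Tits.Roots Cfsg.Agent.GAL.Two Matrix

section comb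

variable {I k : Type} [Field k]

/-- fixed points in the coordinates of the torus -/
def FixT (π : Equiv.Perm I) (ε : I → ℕ) (x : I → k) : Prop := ∀ i, x (π i) = x i ^ 2 ^ ε i

/-- `r` translates between the action on the torus and on the labels -/
def Cr (r π : Equiv.Perm I) (ε : I → ℕ) : Prop := ∀ i, π (r (π i)) = r i ∧ ε (r (π i)) = ε i

variable (k) in
/-- a central element is determined by its coordinates in `P`, and by those outside `P` -/
structure Sep [Fintype I] (A : I → I → ℤ) (P : I → Prop) : Prop where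
  l0 : ∀ x : I → kˣ, (∀ j, chr (A j) x = 1) → (∀ i, P i → x i = 1) → x = 1
  l1 : ∀ x : I → kˣ, (∀ j, chr (A j) x = 1) → (∀ i, ¬ P i → x i = 1) → x = 1
  t0 : ∀ x : I → kˣ, (∀ j, chr (fun i => A i j) x = 1) → (∀ i, P i → x i = 1) → x = 1
  t1 : ∀ x : I → kˣ, (∀ j, chr (fun i => A i j) x = 1) → (∀ i, ¬ P i → x i = 1) → x = 1

theorem eq_one_of_pow [CharP k 2] {a : kˣ} {m : ℕ} (h : a ^ 2 ^ m = 1) : a = 1 :=
  Units.ext ((iterateFrobenius k 2 m).injective (by
    rw [iterateFrobenius_def, ← Units.val_pow_eq_pow_val, h, Units.val_one, map_one]))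

/-- trivial centre -/
theorem sep_of_inv [CharP k 2] [Fintype I] [DecidableEq I] {A : I → I → ℤ} {m : ℕ} (B : Matrix I I ℤ)
    (h : B * of A = (2 ^ m : ℤ) • (1 : Matrix I I ℤ)) (P : I → Prop) : Sep k A P := by
  have h0 : B.det ≠ 0 := fun e => by
    have := congrArg det h
    rw [det_mul, e, zero_mul, det_smul, det_one, mul_one] at this
    exact pow_ne_zero _ (pow_ne_zero _ two_ne_zero) this.symm
  have h1 : of A * B = (2 ^ m : ℤ) • (1 : Matrix I I ℤ) := by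
    have h2 : B.det • (of A * B) = B.det • ((2 ^ m : ℤ) • (1 : Matrix I I ℤ)) := by
      rw [← Matrix.smul_mul, ← Matrix.one_mul (of A), ← Matrix.smul_mul, ← adjugate_mul, Matrix.mul_assoc B.adjugate,
        h, Matrix.mul_assoc, Matrix.smul_mul, Matrix.one_mul, Matrix.mul_smul, adjugate_mul, smul_comm]
    exact smul_right_injective _ h0 h2
  have key : ∀ (C E : Matrix I I ℤ), C * E = (2 ^ m : ℤ) • (1 : Matrix I I ℤ) → ∀ x : I → kˣ,
      (∀ j, chr (E j) x = 1) → x = 1 := fun C E e x hx => funext fun i => eq_one_of_pow (m := m) (by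
    have h2 : mon (C * E) x = 1 := by rw [mon_mul, show mon E x = 1 from funext hx, map_one]
    rw [e, mon_zsmul, mon_one] at h2
    exact_mod_cast congrFun h2 i)
  have h2 : Bᵀ * (of A)ᵀ = (2 ^ m : ℤ) • (1 : Matrix I I ℤ) := by
    rw [← transpose_mul, h1, transpose_smul, transpose_one]
  exact ⟨fun x hx _ => key _ _ h x hx, fun x hx _ => key _ _ h x hx, fun x hx _ => key _ _ h2 x hx,
    fun x hx _ => key _ _ h2 x hx⟩

end comb

section ind

variable {X S Y : Type} [Group X] [Group S] [Group Y]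

/-- `α` induces `a` -/
def Ind (ι : X →* Y) (pr : X →* S) (α : MulAut Y) (a : MulAut S) : Prop :=
  ∀ s, ∃ s', α (ι s) = ι s' ∧ a (pr s) = pr s'

end ind

variable {k : Type} [Field k] [CharP k 2] {Y : Type} [Group Y] {N : Type} [Fintype N]
  [DecidableEq N] {ρ : Y →* GL N k} {F : MulAut Y} {G : Subgroup Y} [IsAlgClosed k] (D : Datum 2 ρ F G)

/-- an automorphism which permutes the simple root groups -/
structure Sym (α : MulAut Y) (A : Matrix D.R D.R ℤ) (π : Equiv.Perm D.I) (ε : D.I → ℕ) : Prop where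
  au : Au D α A
  kap : ∀ i, ∃ c : k, c ≠ 0 ∧ ∀ u ∈ D.U, kap D (π i) (α u) = c * kap D i u ^ 2 ^ ε i
  wt : ∀ i, D.wt (sr (π i)) ᵥ* A = (2 ^ ε i : ℤ) • D.wt (sr i)
  cw : ∀ i, A *ᵥ D.cw i = (2 ^ ε i : ℤ) • D.cw (π i)

/-- the subgroup generated by the root groups -/
abbrev Gd : Subgroup Y := D.S {a | D.Rt a}

variable {X S : Type} [Group X] [Group S] (ι : X →* Y) (pr : X →* S)

/-- the model of the simple group `S` -/
structure Md : Prop where
  good : Good D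
  emb : ∃ d, Odd d ∧ Emb F G D.T ι d
  surj : Function.Surjective pr
  ker : ∀ s, pr s = 1 ↔ s ∈ Subgroup.center X
  sc : ∀ y ∈ GF F G, y ∈ Gd D → y ∈ ι.range

/-- a determinant (needed for `GL₃`, `GU₃` only) -/
structure Det : Prop where
  symm : ∀ i j, D.A i j = D.A j i
  perf : commutator X = ⊤
  ex : ∃ (δ : Y →* kˣ) (ν v : D.R → ℤ) (ω : D.I → D.R → ℤ) (m : ℤ), (∀ y, δ (F y) = δ y ^ m) ∧
    (∀ c, δ (D.τ c) = chr ν c) ∧ (∀ y ∈ GF F G, y ∈ ι.range ↔ δ y = 1) ∧ ν ⬝ᵥ v = 1 ∧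
    (∀ i j, ω i ⬝ᵥ D.cw j = if i = j then 1 else 0) ∧ ∀ a b, ∑ i, ω i a * D.cw i b + ν a * v b = if a = b then 1 else 0

/-- the whole situation -/
structure Sit (r : Equiv.Perm D.I) (P : D.I → Prop) : Prop where
  md : Md D ι pr
  br : Sep k D.A P ∨ (r = 1 ∧ Det D ι)
  cr : Cr r D.σ fun i => D.ex (sr i)
  st : ∀ i, P (D.σ i) ↔ P i

/-- the automorphisms of `S` which come from the algebraic group -/
def Al (r : Equiv.Perm D.I) (P : D.I → Prop) (a : MulAut S) : Prop :=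
  ∃ α A π ε, Sym D α A π ε ∧ Ind ι pr α a ∧ Cr r π ε ∧ ∀ i, P (π i) ↔ P i

variable {D ι pr} {α β : MulAut Y} {A B : Matrix D.R D.R ℤ} {π π' : Equiv.Perm D.I} {ε ε' : D.I → ℕ}

theorem Sym.self (h : D.QS) : Sym D F D.Mx D.σ fun i => D.ex (sr i) where
  au := ⟨fun _ => rfl, D.F_mem_G_iff, D.F_mem_T_iff, h.F_mem_U, D.F_τ⟩
  kap i := ⟨gam D i, (gam D i).ne_zero, fun _ hu => kap_F h i hu⟩
  wt i := by rw [← h.g_sr]; exact D.wt_g (isRoot_sr _ _ i)
  cw i := by rw [← D.cor_sr, ← D.cor_sr, ← h.g_sr]; exact D.Mx_cor (isRoot_sr _ _ i)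

/-- a second Steinberg endomorphism for the same group; apply it to the fields of a datum `D'` which differs from `D`
only in `F` -/
theorem Sym.of_withF (amb : Amb 2 ρ α) (g : (D.I → ℤ) → (D.I → ℤ)) (ex : (D.I → ℤ) → ℕ)
    (g_root : ∀ a, D.Rt a → D.Rt (g a))
    (F_x : ∀ a, D.Rt a → ∃ c : k, c ≠ 0 ∧ ∀ u, α (D.x a u) = D.x (g a) (c * u ^ 2 ^ ex a))
    (F_τ : ∀ c, α (D.τ c) = D.τ (mon A c)) (hc : ∀ y, α (F y) = F (α y)) (hπ : ∀ i, g (sr i) = sr (π i))
    (hε : ∀ i, ex (sr i) = ε i) : Sym D α A π ε := by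
  have h1 : (D.withF amb g ex g_root F_x A F_τ).QSp π := hπ
  have h2 := Sym.self h1.qs
  have h3 : (D.withF amb g ex g_root F_x A F_τ).σ = π := Equiv.ext h1.σ_eq
  rw [h3] at h2
  rw [← funext hε]
  exact ⟨⟨hc, h2.au.memG, h2.au.memT, h2.au.memU, F_τ⟩, h2.kap, h2.wt, h2.cw⟩

theorem Sym.one : Sym D 1 1 1 fun _ => 0 where
  au := ⟨fun _ => rfl, fun _ => Iff.rfl, fun _ => Iff.rfl, fun _ => Iff.rfl, fun c => by rw [mon_one]; rfl⟩
  kap i := ⟨1, one_ne_zero, fun u _ => by simp⟩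
  wt i := by simp
  cw i := by simp

theorem Sym.mul (h : Sym D α A π ε) (h' : Sym D β B π' ε') :
    Sym D (α * β) (A * B) (π * π') fun i => ε' i + ε (π' i) where
  au := ⟨fun y => by rw [MulAut.mul_apply, h'.au.comm, h.au.comm, MulAut.mul_apply],
    fun y => (h.au.memG _).trans (h'.au.memG y), fun y => (h.au.memT _).trans (h'.au.memT y),
    fun y => (h.au.memU _).trans (h'.au.memU y), fun c => by rw [MulAut.mul_apply, h'.au.tau, h.au.tau, mon_mul]⟩
  kap i := by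
    obtain ⟨c, h1, h2⟩ := h.kap (π' i)
    obtain ⟨c', h1', h2'⟩ := h'.kap i
    exact ⟨c * c' ^ 2 ^ ε (π' i), mul_ne_zero h1 (pow_ne_zero _ h1'), fun u hu => by
      rw [MulAut.mul_apply, Equiv.Perm.mul_apply, h2 _ ((h'.au.memU u).2 hu), h2' u hu, mul_pow, ← pow_mul, pow_add,
        mul_assoc]⟩
  wt i := by rw [← vecMul_vecMul, Equiv.Perm.mul_apply, h.wt, smul_vecMul, h'.wt, smul_smul, pow_add, mul_comm]
  cw i := by rw [← mulVec_mulVec, Equiv.Perm.mul_apply, h'.cw, mulVec_smul, h.cw, smul_smul, pow_add]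

theorem sc_of_surj (h : ∀ y ∈ GF F G, y ∈ ι.range) : ∀ y ∈ GF F G, y ∈ Gd D → y ∈ ι.range := fun y hy _ => h y hy

theorem Sym.mem_GF (h : Sym D α A π ε) {y : Y} (hy : y ∈ GF F G) : α y ∈ GF F G :=
  ⟨(h.au.memG y).2 hy.1, (h.au.comm y).symm.trans (congrArg α hy.2)⟩

/-! ### the statements -/

/-- **the generic theorem** -/
def GenBox : Prop :=
  ∀ {k : Type} [Field k] [CharP k 2] {Y : Type} [Group Y] {N : Type} [Fintype N] [DecidableEq N] {ρ : Y →* GL N k}
    {F : MulAut Y} {G : Subgroup Y} [IsAlgClosed k] {D : Datum 2 ρ F G} {X S : Type} [Group X] [Group S] [Finite S]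
    {ι : X →* Y} {pr : X →* S} {r : Equiv.Perm D.I} {P : D.I → Prop}, Subgroup.center S = ⊥ → Sit D ι pr r P →
    ∀ Φ : Subgroup (MulAut S), (∀ a ∈ Φ, Al D ι pr r P a) → Odd (outOf Φ).index → Box S

/-- `Out S` has odd order -/
def Box0 : Prop :=
  ∀ {k : Type} [Field k] [CharP k 2] {Y : Type} [Group Y] {N : Type} [Fintype N] [DecidableEq N] {ρ : Y →* GL N k}
    {F : MulAut Y} {G : Subgroup Y} [IsAlgClosed k] {D : Datum 2 ρ F G} {X S : Type} [Group X] [Group S] [Finite S]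
    {ι : X →* Y} {pr : X →* S} {r : Equiv.Perm D.I} {P : D.I → Prop}, Subgroup.center S = ⊥ → Sit D ι pr r P →
    (∃ m, Odd m ∧ Nat.card (MulAut S) = Nat.card S * m) → Box S

/-- field automorphisms -/
def Box1 : Prop :=
  ∀ {k : Type} [Field k] [CharP k 2] {Y : Type} [Group Y] {N : Type} [Fintype N] [DecidableEq N] {ρ : Y →* GL N k}
    {F : MulAut Y} {G : Subgroup Y} [IsAlgClosed k] {D : Datum 2 ρ F G} {X S : Type} [Group X] [Group S] [Finite S]
    {ι : X →* Y} {pr : X →* S} {r : Equiv.Perm D.I} {P : D.I → Prop}, Subgroup.center S = ⊥ → Sit D ι pr r P →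
    ∀ {φ : MulAut Y} {A : Matrix D.R D.R ℤ}, Sym D φ A 1 (fun _ => 1) → (∀ s, φ (ι s) ∈ ι.range) →
    ∀ {e l : ℕ} (j : D.I), (∀ i, D.ex (sr i) = e) → Function.minimalPeriod D.σ j = l →
    (∀ s, (φ ^ (l * e)) (ι s) = ι s) → (∃ m, Odd m ∧ Nat.card (MulAut S) = Nat.card S * (l * e) * m) → Box S

/-- field and graph automorphisms; `ψ` is the product of `φ` with a graph automorphism of order two -/
def Box2 : Prop :=
  ∀ {k : Type} [Field k] [CharP k 2] {Y : Type} [Group Y] {N : Type} [Fintype N] [DecidableEq N] {ρ : Y →* GL N k}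
    {F : MulAut Y} {G : Subgroup Y} [IsAlgClosed k] {D : Datum 2 ρ F G} {X S : Type} [Group X] [Group S] [Finite S]
    {ι : X →* Y} {pr : X →* S} {P : D.I → Prop}, Subgroup.center S = ⊥ → Sit D ι pr 1 P →
    ∀ {φ ψ : MulAut Y} {A B : Matrix D.R D.R ℤ} {π : Equiv.Perm D.I}, Sym D φ A 1 (fun _ => 1) →
    Sym D ψ B π (fun _ => 1) → (∀ s, φ (ι s) ∈ ι.range) → (∀ s, ψ (ι s) ∈ ι.range) → Commute φ ψ → ψ ^ 2 = φ ^ 2 →
    π * π = 1 → π ≠ 1 → (∀ i, P (π i) ↔ P i) → ∀ {e : ℕ}, D.σ = 1 → (∀ i, D.ex (sr i) = e) →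
    (∀ s, (φ ^ e) (ι s) = ι s) → (∃ m, Odd m ∧ Nat.card (MulAut S) = Nat.card S * (2 * e) * m) → Box S

/-- the special isogeny (`B₂`, `F₄`) -/
def Box3 : Prop :=
  ∀ {k : Type} [Field k] [CharP k 2] {Y : Type} [Group Y] {N : Type} [Fintype N] [DecidableEq N] {ρ : Y →* GL N k}
    {F : MulAut Y} {G : Subgroup Y} [IsAlgClosed k] {D : Datum 2 ρ F G} {X S : Type} [Group X] [Group S] [Finite S]
    {ι : X →* Y} {pr : X →* S} {π : Equiv.Perm D.I} {P : D.I → Prop}, Subgroup.center S = ⊥ → Sit D ι pr π P →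
    ∀ {ψ : MulAut Y} {B : Matrix D.R D.R ℤ} {ε : D.I → ℕ}, Sym D ψ B π ε → (∀ s, ψ (ι s) ∈ ι.range) →
    π * π = 1 → π ≠ 1 → (∀ i, ε i + ε (π i) = 1) → (∀ i, P (π i) ↔ P i) → ∀ {e : ℕ}, D.σ = 1 →
    (∀ i, D.ex (sr i) = e) → (∀ s, (ψ ^ (2 * e)) (ι s) = ι s) →
    (∃ m, Odd m ∧ Nat.card (MulAut S) = Nat.card S * (2 * e) * m) → Box S

/-- the four forms -/
structure Boxes : Prop where
  b0 : Box0
  b1 : Box1
  b2 : Box2
  b3 : Box3

end Cfsg.Agent.GAL.C2
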