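import Cfsg.Agent.GAL.C2.Defs
import Cfsg.Agent.GAL.C2.Cl

/-!
# S4617 / S4618, characteristic 2: labels, central characters, twists (helper89, GAL)

* `mr_sq` : the mean of an odd character over the regular unipotent elements has absolute value one;
* `Zc D` : the centre; `lb_cen`, `lb_triv` : a character is trivial on the centre iff its label is trivial on the
  central cocharacters;
* `lb_tw` : the label of the product with a linear character.
-/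

set_option autoImplicit false
set_option maxHeartbeats 400000
set_option linter.unusedSectionVars false

namespace Cfsg.Agent.GAL.C2

open Cfsg CoxeterSystem Cfsg.Agent.Tits.Roots Cfsg.Agent.Nodes.Reps Cfsg.Agent.Nodes.BNOf
open Cfsg.Agent.DL Cfsg.Agent.DL.PP Cfsg.Agent.DL.Asm Cfsg.Agent.DL.Uni Cfsg.Agent.DL.Mk Cfsg.Agent.ODD.C2
open Cfsg.Agent.Characters.Core Cfsg.Agent.H40.OC Matrix
open scoped ComplexConjugate

theorem nrm_mem_of {Y : Type} [Group Y] {F : MulAut Y} {K : Subgroup Y} (h : ∀ y ∈ K, F y ∈ K) (d : ℕ) {t : Y}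
    (ht : t ∈ K) : nrm F d t ∈ K := by
  induction d with
  | zero => exact one_mem _
  | succ d ih => rw [nrm_succ]; exact mul_mem ih (CF.pow_apply_mem (S := (K : Set Y)) h d ht)

theorem RV_central {Y : Type} [Group Y] {F : MulAut Y} {G T V : Subgroup Y} {θ : Y → ℂ} (hθ : IsLin (T ⊓ GF F G) θ)
    {z : Y} (hz : z ∈ T ⊓ GF F G) (hc : ∀ g ∈ G, z * g = g * z) (g : Y) :
    RV F G T V θ (g * z) = RV F G T V θ g * θ z := by
  have h2 : ∀ t, CF.lam F G V (g * z) (t * z) = CF.lam F G V g t := fun t => congrArg CF.glef (funext fun m =>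
    congrArg Nat.cast (congrArg (fun s : Set Y => Nat.card s) (Set.ext fun x => and_congr_right fun hx =>
      and_congr_right fun _ => by rw [mul_assoc g, hc x hx]; simp [mul_assoc])))
  rw [CF.ind_apply, CF.ind_apply, ← finsum_comp_equiv (Equiv.mulRight (⟨z, hz⟩ : ↥(T ⊓ GF F G))), mul_assoc,
    finsum_mul]
  refine congrArg _ (finsum_congr fun t => ?_)
  rw [Equiv.coe_mulRight, Subgroup.coe_mul, h2, hθ.mul _ t.2 _ hz, mul_assoc]

variable {k : Type} [Field k] [CharP k 2] {Y : Type} [Group Y] {N : Type} [Fintype N]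
  [DecidableEq N] {ρ : Y →* GL N k} {F : MulAut Y} {G : Subgroup Y} [IsAlgClosed k] (D : Datum 2 ρ F G)

/-- the centre -/
def Zc : Subgroup Y where
  carrier := {z | z ∈ D.T ∧ ∀ i, D.χ (sr i) z = 1}
  one_mem' := ⟨one_mem _, fun _ => D.χ_one _⟩
  mul_mem' ha hb := ⟨mul_mem ha.1 hb.1, fun i => by rw [D.χ_mul _ ha.1 hb.1, ha.2, hb.2, mul_one]⟩
  inv_mem' ha := ⟨inv_mem ha.1, fun i => by rw [D.χ_inv _ ha.1, ha.2, inv_one]⟩

variable {D}

theorem Zc_comm {z : Y} (hz : z ∈ Zc D) {g : Y} (hg : g ∈ G) : z * g = g * z := by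
  have h1 : ∀ a, D.χ a z = 1 := fun a => by
    rw [D.eq_sum_sr a]
    refine Finset.sum_induction _ (fun b => D.χ b z = 1) (fun b c hb hc => ?_) (D.χ_zero z) fun i _ => ?_
    · rw [D.χ_add, hb, hc, mul_one]
    · rw [D.χ_zsmul, hz.2, _root_.one_zpow]
  have h2 : G ≤ Subgroup.centralizer {z} := D.G_eq.ge.trans (sup_le
    (fun t ht => Subgroup.mem_centralizer_singleton_iff.2 (D.T_comm ht hz.1)) (RGD.Sup_le fun a ha y hy => by
      obtain ⟨u, rfl⟩ := (D.mem_X a ha y).1 hy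
      have := D.tor' ha hz.1 u
      rw [h1, one_mul] at this
      exact Subgroup.mem_centralizer_singleton_iff.2 (mul_inv_eq_iff_eq_mul.1 this).symm))
  exact (Subgroup.mem_centralizer_singleton_iff.1 (h2 hg)).symm

theorem Zc_cj {z : Y} (hz : z ∈ Zc D) {g : Y} (hg : g ∈ G) : g * z * g⁻¹ = z := by
  rw [← Zc_comm hz hg, mul_inv_cancel_right]

theorem Zc_F (h : D.QS) : ∀ z ∈ Zc D, F z ∈ Zc D := fun z hz => ⟨D.F_mem_T hz.1, fun i => by
  obtain ⟨j, rfl⟩ := D.σ.surjective i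
  rw [← h.g_sr, D.χ_F (isRoot_sr _ _ j) hz.1, hz.2, one_pow]⟩

theorem χ_coch (i : D.I) (v : D.R → ℤ) (a : kˣ) : D.χ (sr i) (D.τ (coch v a)) = (a ^ (Wt D *ᵥ v) i : kˣ) := by
  rw [D.χ_τ, chr_coch]
  rfl

theorem coch_mem_Zc {v : D.R → ℤ} (hv : Wt D *ᵥ v = 0) (a : kˣ) : D.τ (coch v a) ∈ Zc D :=
  ⟨D.τ_mem _, fun i => by rw [χ_coch, hv, Pi.zero_apply, zpow_zero, Units.val_one]⟩

theorem Wm_fix {v : D.R → ℤ} (hv : Wt D *ᵥ v = 0) (u : D.W) : D.Wm u *ᵥ v = v := by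
  induction u using D.cs.simple_induction_left with
  | one => rw [D.Wm_one, one_mulVec]
  | mul_simple_left u i ih =>
    rw [D.Wm_mul, ← mulVec_mulVec, ih, D.Wm_simple, sub_mulVec, one_mulVec, vecMulVec_mulVec,
      show D.wt (sr i) ⬝ᵥ v = 0 from congrFun hv i]
    simp

theorem Wt_pi {m : ℕ} {ϖ : D.I → D.R → ℤ} (h : ∀ b i, D.wt b ⬝ᵥ ϖ i = (2 : ℕ) ^ m * b i) (i : D.I) :
    Wt D *ᵥ ϖ i = (2 ^ m : ℤ) • Pi.single i 1 := funext fun j => by
  refine (h (sr j) i).trans ?_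
  simp [sr, Pi.single_apply, eq_comm]

theorem Wt_sum {m : ℕ} {ϖ : D.I → D.R → ℤ} (h : ∀ b i, D.wt b ⬝ᵥ ϖ i = (2 : ℕ) ^ m * b i) (s : D.I → ℤ) :
    Wt D *ᵥ ∑ i, s i • ϖ i = (2 ^ m : ℤ) • s := by
  rw [mulVec_sum]
  simp only [mulVec_smul, Wt_pi h, ← Pi.single_smul, smul_eq_mul, mul_one, Finset.univ_sum_single]
  exact funext fun i => mul_comm _ _

theorem cw_mem_Gd (i : D.I) (a : kˣ) : D.τ (coch (D.cw i) a) ∈ Gd D := by
  obtain ⟨c₁, c₂, -, -, t, -, h⟩ := D.rank_one i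
  have h0 : ∀ {b}, D.Rt b → ∀ u, D.x b u ∈ Gd D := fun hb u => RGD.le_Sup (S := {a | D.Rt a}) hb (D.x_mem hb u)
  have h1 : ∀ u : kˣ, D.τ (coch (D.cw i) u⁻¹) * t * D.n i ∈ Gd D := fun u => by
    have := h0 (isRoot_sr _ _ i).neg u
    rwa [h u, mul_mem_cancel_right (h0 (isRoot_sr _ _ i) _), mul_assoc, mul_mem_cancel_left (h0 (isRoot_sr _ _ i) _)]
      at this
  simpa using mul_mem (h1 a⁻¹) (inv_mem (h1 1))

theorem Gd_cj {g y : Y} (hg : g ∈ G) (hy : y ∈ Gd D) : g * y * g⁻¹ ∈ Gd D := by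
  obtain ⟨s, hs, t, ht, rfl⟩ := (D.mem_TS (A := {a | D.Rt a}) fun _ h => h).1 (D.G_eq.ge hg)
  rw [show s * t * y * (s * t)⁻¹ = s * (t * y * t⁻¹) * s⁻¹ by group]
  exact mul_mem (mul_mem hs (D.conj_mem_S_of_T (fun _ h => h) ht hy)) (inv_mem hs)

theorem Gd_F : ∀ y ∈ Gd D, F y ∈ Gd D := fun _ hy => D.F_mem_S (fun _ h => h) (fun a h => D.g_root a h) hy

section lvl

variable {d e : ℕ} {ζ : kˣ} (L : Lvl D d e) (hζ : IsPrimitiveRoot ζ (2 ^ e - 1))
include L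

theorem Lvl_T {t : Y} (ht : t ∈ D.T) : (F ^ d) t = t ^ 2 ^ e :=
  (L.tor (y := 1) (w := 1) (one_mem _) (by simpa using rp_one)).frob t (by rwa [cj_one])

include hζ

theorem exists_cen (hZ : CZ D) {z : Y} (hz : z ∈ Zc D) (h : (F ^ d) z = z) :
    ∃ v, Wt D *ᵥ v = 0 ∧ z = D.τ (coch v ζ) := by
  obtain ⟨m, ϖ, hϖ⟩ := hZ
  obtain ⟨x, hx⟩ := exists_coch L hζ (y := 1) (w := 1) (one_mem _) (by simpa using rp_one) (by rw [cj_one]; exact hz.1) h
  rw [one_mul, inv_one, mul_one] at hx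
  have h1 : D.τ (coch ((2 ^ m : ℤ) • x - ∑ i, (Wt D *ᵥ x) i • ϖ i) ζ) = z ^ 2 ^ m := by
    have h2 : coch (∑ i, (Wt D *ᵥ x) i • ϖ i) ζ = 1 :=
      Finset.sum_induction _ (fun v => coch v ζ = 1) (fun a b ha hb => by rw [coch_add, ha, hb, mul_one])
        (funext fun _ => zpow_zero _) fun i _ => by
          have h3 := hz.2 i
          rw [hx, χ_coch, Units.val_eq_one] at h3
          rw [coch_zsmul, h3, map_one]
    rw [sub_eq_add_neg, coch_add, coch_neg, h2, inv_one, mul_one, coch_zsmul, hx, ← map_pow, ← map_pow]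
    norm_cast
  have h2 : ∀ j, z ^ 2 ^ (e * j) = z := fun j => by
    induction j with
    | zero => simp
    | succ j ih => rw [mul_add, mul_one, pow_add, pow_mul, ih, ← Lvl_T L hz.1, h]
  refine ⟨(2 ^ (e * m - m) : ℤ) • ((2 ^ m : ℤ) • x - ∑ i, (Wt D *ᵥ x) i • ϖ i), ?_, ?_⟩
  · rw [mulVec_smul, mulVec_sub, mulVec_smul, Wt_sum hϖ, sub_self, smul_zero]
  · rw [coch_zsmul, map_zpow, map_zpow, h1, ← h2 m]
    norm_cast
    rw [h2, ← pow_mul, ← pow_add, Nat.add_sub_cancel' (Nat.le_mul_of_pos_left m L.e_pos), h2]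

theorem exists_nrm_cen (h : D.QS) (hZ : CZ D) {z : Y} (hz : z ∈ Zc D) (hF : F z = z) :
    ∃ v, Wt D *ᵥ v = 0 ∧ z = nrm F d (D.τ (coch v ζ)) := by
  obtain ⟨v, hv, rfl⟩ := exists_cen L hζ hZ hz (CF.pow_apply_of_fixed hF d)
  have h0 : 1 < 2 ^ e := Nat.one_lt_two_pow L.e_pos.ne'
  obtain ⟨b, hb⟩ := exists_zpow_eq (n := ((2 ^ e - 1 : ℕ) : ℤ)) (by omega) ζ⁻¹
  rw [zpow_natCast] at hb
  have h1 := coch_mem_Zc hv b
  have h2 : (F ^ d) (D.τ (coch v b)) = D.τ (coch v b) * (D.τ (coch v ζ))⁻¹ := by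
    rw [Lvl_T L h1.1, ← map_inv, ← map_inv, ← hb, map_pow, map_pow, ← pow_succ', Nat.sub_add_cancel h0.le]
  obtain ⟨v', hv', h3⟩ := exists_cen L hζ hZ (mul_mem h1 (inv_mem (Zc_F h _ h1))) (by
    rw [map_mul, map_inv, ← MulAut.mul_apply _ (F ^ d) F, ← pow_succ, pow_succ', MulAut.mul_apply, h2, map_mul F, map_inv F, hF,
      _root_.mul_inv_rev, inv_inv, mul_assoc, inv_mul_cancel_left])
  exact ⟨v', hv', by rw [← h3, nrm_lang, h2, _root_.mul_inv_rev, inv_inv, D.T_comm (D.τ_mem _) (inv_mem h1.1),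
    mul_inv_cancel_left]⟩

end lvl

variable [Fintype (GF F G)] {T : Subgroup Y} {θ : Y → ℂ} {χ : GF F G → ℂ} {d e : ℕ} {ζ : kˣ} {c : D.R → ℂˣ}

theorem mr_sq (h : Good D) [Fintype (UH D)] (hχ : IsIrrCharacter (GF F G) χ) (hp : ¬ 2 ∣ charDegree χ) :
    Complex.normSq (mr (UH D) (Do D) χ) = 1 := by
  classical
  have := @Fintype.ofFinite _ (finite_irr (G := GF F G))
  have := Fintype.ofFinite (TH D)
  have := Fintype.ofFinite (Ob D)
  obtain ⟨lam, hl⟩ := exists_lam h.qs h.cz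
  obtain ⟨d, e, L⟩ := exists_lvl D
  obtain ⟨ζ, hζ⟩ := exists_prim (p := 2) (k := k) L.e_pos
  have h1 : ∀ ψ : IrrCharacter (GF F G),
      (if ¬ 2 ∣ charDegree ψ.1 then 1 else 0 : ℝ) ≤ Complex.normSq (mr (UH D) (Do D) ψ) := fun ψ => by
    obtain ⟨c, n, h1, h2, h3⟩ := mr_congr (sys h.qs h.cz) hl (D.isPGroup_U.comap_subtype) (fun f u hu =>
      h.hn (f.comp (MonoidHom.mk' (fun x => ⟨⟨x.1, x.2.2⟩, x.2.1⟩) fun _ _ => rfl)) ⟨u, u.2, u.1.2⟩ fun i =>
        (hu _).2 i rfl) (χ := ψ.1) (isCharacter_comp (UH D).subtype (isIrr_isCharacter ψ.2))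
      fun t _ u _ => by simpa using isIrr_isClassFunction ψ.2 u t⁻¹
    rw [h1, deg_of_eq h2, Complex.normSq_intCast]
    split_ifs with h4
    · simpa using mul_self_nonneg (c : ℝ)
    · have : c ≠ 0 := fun e => h4 (by rwa [e, sub_zero, Int.natCast_dvd_natCast] at h3)
      exact_mod_cast mul_self_pos.2 this
  have h2 : Nat.card (Quotient (clsSetoid D)) ≤
      Nat.card {ψ : IrrCharacter (GF F G) // ¬ 2 ∣ charDegree (ψ : GF F G → ℂ)} := by
    choose f f1 f2 f3 using fun ω : Quotient (clsSetoid D) => exists_of_fx L hζ h.cz ω.out.2.choose_spec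
    exact Nat.card_le_card_of_injective (fun ω => ⟨⟨f ω, f1 ω⟩, f2 ω⟩) fun ω ω' e =>
      Quotient.out_equiv_out.1 ((f3 ω).rel L hζ (f1 ω) ((congrArg (·.1.1) e : f ω = f ω') ▸ f3 ω'))
  have h3 : ∑ ψ : IrrCharacter (GF F G), (if ¬ 2 ∣ charDegree ψ.1 then 1 else 0 : ℝ) =
      ∑ ψ : IrrCharacter (GF F G), Complex.normSq (mr (UH D) (Do D) ψ) := by
    refine le_antisymm (Finset.sum_le_sum fun ψ _ => h1 ψ) ((sum_mr_le_cls h.qs h.cz).trans
      ((Nat.cast_le.2 h2).trans_eq ?_))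
    rw [Nat.card_eq_fintype_card, Fintype.card_subtype, Finset.card_filter, Nat.cast_sum]
    simp
  have h4 := (Finset.sum_eq_sum_iff_of_le fun ψ _ => h1 ψ).1 h3 ⟨χ, hχ⟩ (Finset.mem_univ _)
  rw [if_pos hp] at h4
  exact h4.symm

theorem ov_central (h : Ov D T θ χ) (hχ : IsIrrCharacter (GF F G) χ) {z : GF F G} (hz : (z : Y) ∈ T)
    (hc : ∀ g ∈ G, z * g = g * (z : Y)) : χ z = θ z * χ 1 := by
  have h0 : z ∈ Subgroup.center (GF F G) := Subgroup.mem_center_iff.2 fun g => Subtype.ext (hc g g.2.1).symm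
  obtain ⟨a, h1, -⟩ := ODD.Red.exists_central hχ h0
  have h2 : ∀ g, χ (g * z⁻¹) = χ g / a ∧ a ≠ 0 := fun g => by
    have ha : a ≠ 0 := fun e => isIrr_apply_one_ne_zero hχ (by simpa [e] using h1 z⁻¹)
    refine ⟨eq_div_of_mul_eq ha ?_, ha⟩
    rw [mul_comm, ← h1, Subgroup.mem_center_iff.1 (inv_mem h0), mul_inv_cancel_left]
  have h3 : classInner (res (GF F G) (R D T θ)) χ =
      θ z * conj a * classInner (res (GF F G) (R D T θ)) χ := by
    conv_lhs => rw [classInner_def, ← Equiv.sum_comp (Equiv.mulRight z)]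
    rw [classInner_def, mul_left_comm, Finset.mul_sum (a := θ z * conj a)]
    refine congrArg _ (Finset.sum_congr rfl fun g _ => ?_)
    simp only [Equiv.coe_mulRight, res, R]
    rw [Subgroup.coe_mul, RV_central h.lin ⟨hz, z.2⟩ hc, Subgroup.mem_center_iff.1 h0 g, h1, map_mul]
    ring
  have h4 : θ z * conj a = 1 := (mul_right_eq_self₀.1 (by rw [mul_comm]; exact h3.symm)).resolve_right h.ne
  have h5 : conj a = a⁻¹ := by
    have h6 := isCharacter_apply_inv (isIrr_isCharacter hχ) z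
    have h7 := h1 1
    have h8 := isCharacter_apply_inv (isIrr_isCharacter hχ) 1
    rw [mul_one] at h7
    rw [inv_one] at h8
    rw [← one_mul z⁻¹, (h2 1).1, h7, map_mul, ← h8, div_eq_inv_mul] at h6
    exact (mul_right_cancel₀ (isIrr_apply_one_ne_zero hχ) h6).symm
  rw [h5, mul_inv_eq_one₀ (h2 1).2] at h4
  rw [h4, ← h1, mul_one]

section

variable (L : Lvl D d e) (hζ : IsPrimitiveRoot ζ (2 ^ e - 1)) (hχ : IsIrrCharacter (GF F G) χ) (h : Lb D d ζ χ c)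
include L hζ h

include hχ in
theorem lb_nrm (hq : D.QS) {v : D.R → ℤ} (hv : Wt D *ᵥ v = 0) {z : GF F G} (hz : (z : Y) = nrm F d (D.τ (coch v ζ))) :
    χ z = chr v c * χ 1 := by
  obtain ⟨y, hy, w, hw, θ, c', u, h1, h2, h3⟩ := h
  have h4 : (z : Y) ∈ Zc D := hz ▸ nrm_mem_of (Zc_F hq) d (coch_mem_Zc hv ζ)
  rw [ov_central h3 hχ (Zc_cj h4 hy ▸ conj_mem_cj.2 h4.1) fun g hg => Zc_comm h4 hg, hz,
    ← Zc_cj (coch_mem_Zc hv ζ) hy, h1, ← h2, Wm_fix hv]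

include hχ in
theorem lb_cen (hq : D.QS) (hz : ∀ z : GF F G, (z : Y) ∈ Zc D → χ z = χ 1) {v : D.R → ℤ} (hv : Wt D *ᵥ v = 0) :
    chr v c = 1 := by
  have h1 := (nrm_mem L hζ (y := 1) (w := 1) (one_mem _) (by simpa using rp_one) v).2
  rw [one_mul, inv_one, mul_one] at h1
  have h2 := lb_nrm L hζ hχ h hq hv (z := ⟨_, h1⟩) rfl
  rw [hz _ (nrm_mem_of (Zc_F hq) d (coch_mem_Zc hv ζ))] at h2
  exact Units.ext ((mul_left_eq_self₀.1 h2.symm).resolve_right (isIrr_apply_one_ne_zero hχ))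

include hχ in
theorem lb_triv (hq : D.QS) (hZ : CZ D) (hc : ∀ v, Wt D *ᵥ v = 0 → chr v c = 1) {z : GF F G} (hz : (z : Y) ∈ Zc D) :
    χ z = χ 1 := by
  obtain ⟨v, hv, h1⟩ := exists_nrm_cen L hζ hq hZ hz z.2.2
  rw [lb_nrm L hζ hχ h hq hv h1, hc v hv, Units.val_one, one_mul]

/-- the label of the product with a linear character -/
theorem lb_tw (β : GF F G →* ℂˣ) (hβ : ∀ g : GF F G, (g : Y) ∈ Gd D → β g = 1)
    (hu : ∀ g : GF F G, IsUni 2 (g : Y) → β g = 1) :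
    ∃ z : D.R → ℂˣ, (∀ i, chr (D.cw i) z = 1) ∧ Lb D d ζ (fun g => β g * χ g) (c * z) ∧ ∃ y ∈ G, ∃ w,
      D.Rp w (y⁻¹ * F y) ∧ ∀ v (g : GF F G), (g : Y) = nrm F d (y * D.τ (coch v ζ) * y⁻¹) → β g = chr v z := by
  obtain ⟨y, hy, w, hw, θ, c', u, h1, h2, h3⟩ := h
  let φ : Y → ℂ := extendByZero (GF F G) fun g => β g
  have e1 : ∀ g : GF F G, φ g = β g := fun g => extendByZero_of_mem _ _ g.2
  have e2 : ∀ a ∈ GF F G, ∀ b ∈ GF F G, φ (a * b) = φ a * φ b := fun a ha b hb => by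
    rw [← Subgroup.coe_mk _ a ha, ← Subgroup.coe_mk _ b hb, ← Subgroup.coe_mul, e1, e1, e1, map_mul, Units.val_mul]
  have e3 : IsLin (cj y D.T ⊓ GF F G) φ :=
    ⟨(e1 1).trans (by rw [map_one, Units.val_one]), fun a ha b hb => e2 a ha.2 b hb.2⟩
  have e4 : PConst 2 (GF F G) φ := ⟨fun g hg a ha => by
      rw [← Subgroup.coe_mk _ a ha, ← Subgroup.coe_mk _ g hg, ← Subgroup.coe_inv, ← Subgroup.coe_mul,
        ← Subgroup.coe_mul, e1, e1, map_mul, map_mul, map_inv, mul_inv_cancel_comm],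
    fun s hs a ha _ h4 _ => by rw [e2 s hs a ha, e1 ⟨a, ha⟩, hu ⟨a, ha⟩ h4, Units.val_one, mul_one]⟩
  have e5 : res (GF F G) (R D (cj y D.T) (φ * θ)) = fun g => β g * res (GF F G) (R D (cj y D.T) θ) g :=
    funext fun g => ((sys' D).pconst _ h3.tor φ θ e4 g g.2).trans (by rw [e1]; rfl)
  obtain ⟨z, hz⟩ := exists_lab L hζ hy hw e3
  have h5 : ∀ i, chr (D.cw i) z = 1 := fun i => Units.ext (by
    rw [← hz, e1 ⟨_, (nrm_mem L hζ hy hw _).2⟩, hβ _ (nrm_mem_of Gd_F d (Gd_cj hy (cw_mem_Gd i ζ)))])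
  have h6 : ∀ u v, chr (D.Wm u *ᵥ v) z = chr v z := fun u v => by
    induction u using D.cs.simple_induction_left with
    | one => rw [D.Wm_one, one_mulVec]
    | mul_simple_left u i ih =>
      rw [D.Wm_mul, ← mulVec_mulVec, D.Wm_simple, sub_mulVec, one_mulVec, vecMulVec_mulVec, chr_sub, ih, op_smul_eq_smul,
        chr_zsmul, h5, _root_.one_zpow, inv_one, mul_one]
  refine ⟨z, h5, ⟨y, hy, w, hw, φ * θ, z * c', u, fun v => ?_, fun v => ?_, h3.tor, ⟨?_, fun a ha b hb => ?_⟩, ?_, ?_⟩,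
    y, hy, w, hw, fun v g hg => Units.ext (by rw [← e1, hg, hz])⟩
  · rw [Pi.mul_apply, hz, h1, map_mul, Units.val_mul]
  · rw [map_mul, map_mul, h2, h6, mul_comm]
  · rw [Pi.mul_apply, e3.one, h3.lin.one, mul_one]
  · rw [Pi.mul_apply, Pi.mul_apply, Pi.mul_apply, e3.mul a ha b hb, h3.lin.mul a ha b hb, mul_mul_mul_comm]
  · obtain ⟨ε, h7, h8⟩ := h3.tru
    refine ⟨ε, h7, ?_⟩
    have h9 := isCharacter_mul (isIrr_isCharacter (ODD.Red.isIrr_lin_mul β isIrr_one)) h8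
    convert h9 using 1
    funext g
    have := congrFun e5 g
    simp only [res, Pi.smul_apply, Pi.mul_apply, Pi.one_apply, smul_eq_mul] at this ⊢
    rw [this]
    ring
  · rw [e5, classInner_def]
    refine fun e => h3.ne (Eq.trans ?_ e)
    refine congrArg _ (Finset.sum_congr rfl fun g _ => ?_)
    have h7 : (β g : ℂ) * conj (β g : ℂ) = 1 := by
      have := isCharacter_apply_inv (isIrr_isCharacter (ODD.Red.isIrr_lin_mul β isIrr_one)) g
      simp only [Pi.one_apply, mul_one] at this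
      rw [← this, ← Units.val_mul, ← map_mul, mul_inv_cancel, map_one, Units.val_one]
    rw [map_mul, mul_mul_mul_comm, h7, one_mul]

end

end Cfsg.Agent.GAL.C2
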