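import Cfsg.Agent.GAL.C2.Cd
import Cfsg.Agent.GAL.Two.Kp

/-!
# S4617 / S4618, characteristic 2: the generic theorem (helper89, GAL)

* `ff_iff` : `FF A` holds iff the points of the torus which are fixed by `F` and `A` are central;
* `genBox : GenBox`, `boxes : Boxes`.
-/

set_option autoImplicit false
set_option maxHeartbeats 400000
set_option linter.unusedSectionVars false

namespace Cfsg.Agent.GAL.C2

open Cfsg Cfsg.Agent.Tits.Roots Cfsg.Agent.DL Cfsg.Agent.DL.PP Cfsg.Agent.DL.Uni Cfsg.Agent.ODD.C2 Cfsg.Agent.GAL.Two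
open Cfsg.Agent.Characters Cfsg.Agent.Characters.Core Cfsg.Agent.H601.K4 Cfsg.Agent.TAB.Use

theorem oddIrr_gal {H : Type} [Group H] [Finite H] {χ : H → ℂ} (h : OddIrr χ) (σ : ℂ ≃+* ℂ) :
    OddIrr fun g => σ (χ g) :=
  ⟨GaloisIrr.isIrr_map σ h.1, by
    rw [deg_of_eq (n := charDegree χ) (by rw [← deg_cast (isIrr_isCharacter h.1), map_natCast])]
    exact h.2⟩

theorem fixT_iff_fixL {I k : Type} [Field k] {r π : Equiv.Perm I} {ε : I → ℕ} (h : Cr r π ε) {a : I → k} :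
    FixT π ε (fun i => a (r i)) ↔ FixL π ε a := by
  refine ⟨fun h1 j => ?_, fun h1 i => ?_⟩
  · obtain ⟨i, rfl⟩ := (π.trans r).surjective j
    rw [Equiv.trans_apply, (h i).1, (h i).2]
    exact (h1 i).symm
  · have := h1 (r (π i))
    rw [(h i).1, (h i).2] at this
    exact this.symm

theorem FixL.ite {I k : Type} [Field k] {π : Equiv.Perm I} {ε : I → ℕ} {u : I → kˣ} (h : FixL π ε fun i => (u i : k))
    {P : I → Prop} [DecidablePred P] (hP : ∀ i, P (π i) ↔ P i) :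
    FixL π ε fun i => ((if P i then u i else 1 : kˣ) : k) := fun i => by
  by_cases h1 : P i
  · simpa only [if_pos h1, if_pos ((hP i).2 h1)] using h i
  · simp only [if_neg h1, if_neg (mt (hP i).1 h1), Units.val_one, one_pow]

open Classical in
/-- zeros are replaced by one -/
noncomputable def un {k : Type} [Field k] (a : k) : kˣ := if h : a = 0 then 1 else Units.mk0 a h

theorem un_mul {k : Type} [Field k] (a : k) : un a * a = a ^ 2 := by
  unfold un
  split_ifs with h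
  · simp [h]
  · rw [Units.val_mk0, sq]

theorem FixL.un {I k : Type} [Field k] {π : Equiv.Perm I} {ε : I → ℕ} {a : I → k} (h : FixL π ε a) :
    FixL π ε fun i => (un (a i) : k) := fun i => by
  beta_reduce
  rw [← h i]
  unfold C2.un
  by_cases h1 : a (π i) = 0
  · simp [h1]
  · simp [h1]

variable {k : Type} [Field k] [CharP k 2] {Y : Type} [Group Y] {N : Type} [Fintype N]
  [DecidableEq N] {ρ : Y →* GL N k} {F : MulAut Y} {G : Subgroup Y} [IsAlgClosed k] {D : Datum 2 ρ F G}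
  {X S : Type} [Group X] [Group S] [Finite S] {ι : X →* Y} {pr : X →* S} {r : Equiv.Perm D.I} {P : D.I → Prop}
  {A : Subgroup (MulAut S)}

theorem cen_of_ff (M : Md D ι pr) (hZ : Subgroup.center S = ⊥) (h2 : IsPGroup 2 A) (hF : FF A) {u : D.I → kˣ}
    (h : FixL D.σ (fun i => D.ex (sr i)) fun i => (u i : k))
    (hA : ∀ a ∈ A, ∃ α B π ε, Sym D α B π ε ∧ C2.Ind ι pr α a ∧ FixL π ε fun i => (u i : k)) (j : D.I) :
    chr (D.A j) u = 1 := by
  have := D.amb.finite_GF G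
  have := Fintype.ofFinite (GF F G)
  obtain ⟨d, e, ζ, J, V⟩ := exists_lev M.good
  obtain ⟨χ, hχ, h1⟩ := V.exists_of_fix h
  obtain ⟨σ, hσ⟩ := exists_sig
  obtain ⟨β, h3, h4⟩ := tw_of_ff M hZ h2 hF hχ (fun z => V.cd_triv hχ.1 h1) (fun a ha =>
    let ⟨α, B, _, _, s1, s2, s3⟩ := hA a ha
    ⟨α, B, s1.au, s2, V.cd_inv hχ h1 s1 s3⟩) hσ
  obtain ⟨m, hm, hE⟩ := M.emb
  obtain ⟨z, h5, h6⟩ := V.cd_tw h1 β (fun g hg => h3 g (M.sc g g.2 hg)) (fun g ⟨n, hn⟩ =>
    eq_one_of_odd_two (hm.of_dvd_nat (orderOf_dvd_of_pow_eq_one ((map_pow β g m).symm.trans (h3 _ (hE.pow g g.2)))))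
      (n := n) (by rw [← map_pow, ← hn, Subgroup.orderOf_coe, pow_orderOf_eq_one, map_one])) hχ.1 fun z hz => by
    rw [← h4, V.cd_triv hχ.1 h1 hz, ← deg_cast (isIrr_isCharacter hχ.1), map_natCast]
  have h7 := V.cd_unique (oddIrr_gal hχ σ).1 (V.cd_gal hσ (isIrr_isCharacter hχ.1) h1) (funext h4 ▸ h6 :)
  rw [show u = z from funext fun i => Units.ext (mul_right_cancel₀ (u i).ne_zero ((sq _).symm.trans (congrFun h7 i))), h5]

theorem ff_iff (hZ : Subgroup.center S = ⊥) (hS : Sit D ι pr r P) (h2 : IsPGroup 2 A) (hA : ∀ a ∈ A, Al D ι pr r P a) :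
    FF A ↔ ∀ x, XA D ι pr r P A x → ∀ j, chr (fun i => D.A i j) x = 1 := by
  classical
  have := D.amb.finite_GF G
  have := Fintype.ofFinite (GF F G)
  refine ⟨fun hF x hx j => ?_, fun h => ff_of hS.md hZ h2 (fun a ha =>
    let ⟨α, B, _, _, s1, s2, _⟩ := hA a ha
    ⟨α, B, s1.au, s2⟩) fun χ hχ hz hi σ hσ g hg => ?_⟩
  · obtain ⟨u, rfl⟩ : ∃ u : D.I → kˣ, x = fun i => u (r i) := ⟨fun i => x (r.symm i), by simp⟩
    have h1 := (fixT_iff_fixL (a := fun i => (u i : k)) hS.cr).1 hx.1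
    have h3 : ∀ (Q : D.I → Prop) [DecidablePred Q], (∀ π : Equiv.Perm D.I, (∀ i, P (π i) ↔ P i) → ∀ i, Q (π i) ↔ Q i) →
        ∀ j, chr (D.A j) (fun i => if Q i then u i else 1) = 1 := fun Q _ hQ =>
      cen_of_ff hS.md hZ h2 hF (h1.ite (hQ _ hS.st)) fun a ha =>
        let ⟨α, B, π, ε, s1, s2, s3, s4⟩ := hA a ha
        ⟨α, B, π, ε, s1, s2, ((fixT_iff_fixL (a := fun i => (u i : k)) s3).1 (hx.2 a ha α B π ε s1 s2 s3 s4)).ite (hQ π s4)⟩
    rcases hS.br with hs | ⟨rfl, hD⟩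
    · have h4 := hs.l1 _ (h3 P fun _ h => h) fun i hi => if_neg hi
      have h5 := hs.l0 _ (h3 (¬ P ·) fun _ h i => not_congr (h i)) fun i hi => if_neg (not_not.2 hi)
      rw [show (fun i => u (r i)) = 1 from funext fun i => if h : P (r i) then (if_pos h).symm.trans (congrFun h4 _) else
        (if_pos h).symm.trans (congrFun h5 _), map_one]
    · simpa only [if_true, hD.symm _ j, Equiv.Perm.one_apply] using h3 (fun _ => True) (fun _ _ _ => Iff.rfl) j
  · obtain ⟨d, e, ζ, J, V⟩ := exists_lev hS.md.good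
    obtain ⟨a, ha⟩ := V.exists_cd hχ hz
    have h1 := (V.cd_F hχ.1 ha).un
    have h3 : XA D ι pr r P A fun i => un (a (r i)) := ⟨(fixT_iff_fixL hS.cr).2 h1, fun b hb α B π ε s1 s2 s3 _ =>
      (fixT_iff_fixL s3).2 (V.cd_fix hχ.1 ha s1 (hi b hb α B s1.au s2)).un⟩
    have h4 := V.cd_gal hσ (isIrr_isCharacter hχ.1) ha
    rw [← funext fun i => un_mul (a i)] at h4
    rcases hS.br with hs | ⟨rfl, hD⟩
    · have h5 : ∀ i, un (a i) = 1 := fun i => by
        simpa using congrFun (XA.eq_one hs hS.st h h3) (r.symm i)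
      simp only [h5, Units.val_one, one_mul] at h4
      exact congrFun (V.cd_eq (oddIrr_gal hχ σ) hχ h4 ha) g
    · obtain ⟨β, h5, h6⟩ := V.cd_det hD hS.md.sc ha (fun j => by simpa only [hD.symm _ j, Equiv.Perm.one_apply] using h _ h3 j) h1
      have h7 := V.cd_eq (oddIrr_gal hχ σ) ⟨ODD.Red.isIrr_lin_mul β hχ.1, by
        rw [deg_of_eq (n := charDegree χ) (by rw [map_one, Units.val_one, one_mul, deg_cast (isIrr_isCharacter hχ.1)])]
        exact hχ.2⟩ h4 h6
      rw [congrFun h7 g, h5 g hg, Units.val_one, one_mul]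

/-- **the generic theorem** -/
theorem genBox : GenBox := fun hZ hS Φ hΦ hO =>
  box_of_phi hZ (md_noC hS.md) (mdQ hS.md) Φ (fun a ha =>
    let ⟨_, _, _, _, s1, s2, _⟩ := hΦ a ha
    map_mdQ hS.md s1.au s2) hO fun _ hA h2 =>
      (dda_iff hS h2 fun a ha => hΦ a (hA ha)).trans (ff_iff hZ hS h2 fun a ha => hΦ a (hA ha)).symm

theorem boxes : Boxes := boxes_of genBox

end Cfsg.Agent.GAL.C2
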