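import Cfsg.Agent.GAL.C2.RowX
import Cfsg.Agent.GAL.Rows
import Cfsg.Agent.ODD.C2.SpE
import Cfsg.Agent.H67.SzOdd
import Cfsg.Agent.S2126

/-!
# S4617 / S4618, characteristic 2: the symplectic groups over fields with `q ≥ 4` elements, the Suzuki groups
(helper8, GAL)

`box_psp`, `row_sz`.
-/

set_option autoImplicit false
set_option maxHeartbeats 400000
set_option linter.unusedSectionVars false

namespace Cfsg.Agent.GAL.C2.RC

open Cfsg Cfsg.Lie Cfsg.Agent.Tits.Roots Cfsg.Agent.Nodes Cfsg.Agent.BpExc.TowChev Cfsg.Agent.BpExc.Fr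
open Cfsg.Agent.DL Cfsg.Agent.DL.PP Cfsg.Agent.DL.Ex Cfsg.Agent.DL.Tw Cfsg.Agent.ODD.C2 Cfsg.Agent.GAL.C2.RX
open Cfsg.Agent.ChevalleyStructure.CoxeterGeom Matrix

section mn

variable {I : Type} [Fintype I] [DecidableEq I] {A : I → I → ℤ} {R N : Type} [Fintype R] [DecidableEq R] [Fintype N]
  [DecidableEq N] (m : Mn A R N) {k : Type} [Field k] [CharP k 2] [IsAlgClosed k]
  {W : Type} [Group W] [Finite W] {M : CoxeterMatrix I} (cs : CoxeterSystem M W) (h : IsCartan M A)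
  (hk : ∀ a : k, ∃ j, 0 < j ∧ a ^ 2 ^ j = a) {e : ℕ} (he : 0 < e)

theorem σ_dat : (m.dat cs h hk he).σ = 1 :=
  Equiv.ext (Datum.QSp.σ_eq (D := m.dat cs h hk he) (π := id) fun _ => rfl)

theorem sym_dat : Sym (m.dat cs h hk he) (1 * frA N k 1) (m.dat cs h hk one_pos).Mx 1 fun _ => 1 :=
  Sym.of_withF (D := m.dat cs h hk he) (m.dat cs h hk one_pos).amb (m.dat cs h hk one_pos).g
    (m.dat cs h hk one_pos).ex (m.dat cs h hk one_pos).g_root (m.dat cs h hk one_pos).F_x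
    (m.dat cs h hk one_pos).F_τ (fun y => by
      rw [one_mul, one_mul, ← MulAut.mul_apply, ← MulAut.mul_apply, ← mul_one e, ← frA_pow, ← pow_succ, ← pow_succ'])
    (fun _ => rfl) fun _ => rfl

end mn

theorem sep_C {k : Type} [Field k] [CharP k 2] (n : ℕ) (P : Fin n → Prop) : Sep k (TypeC.A n) P := by
  have h1 : of (cwC (n := n)) * of (fun a j : Fin n => if a ≤ j then (1 : ℤ) else 0) = 1 := by
    ext i j
    rw [Matrix.mul_apply, Matrix.one_apply]
    refine (dotProduct_comm _ _).trans ((dot_cwC i fun a => if a ≤ j then 1 else 0).trans ?_)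
    have := j.2
    unfold TypeC.Cf
    simp only [Fin.le_def, Fin.ext_iff]
    split_ifs <;> omega
  have h2 : of (TypeC.A n) = of (cwC (n := n)) * (of (TypeC.bt (n := n)))ᵀ := by
    ext i j
    exact (dot_cwC i (TypeC.bt j)).symm.trans (dotProduct_comm _ _)
  refine sep_of_inv (m := 1) (of (fundC (n := n)) * of fun a j : Fin n => if a ≤ j then (1 : ℤ) else 0) ?_ P
  rw [h2, ← Matrix.mul_assoc, Matrix.mul_assoc (of fundC), mul_eq_one_comm.1 h1, Matrix.mul_one]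
  ext i j
  have h3 := dot_fundC (sr j) i
  rw [TypeC.ee_sr, dotProduct_comm] at h3
  refine h3.trans ?_
  rw [Matrix.smul_apply, Matrix.one_apply, show (sr j : Fin n → ℤ) i = _ from Pi.single_apply j 1 i]
  rfl

section twisted

variable {k : Type} [Field k] [CharP k 2] [IsAlgClosed k] (hk : LocFin k)

/-- the reflection of the diagram of `B₂` -/
def swE : Equiv.Perm (Fin 2) := Function.Involutive.toPerm swB (by intro i; revert i; decide)

theorem sym_B2 {e : ℕ} (he : 0 < e) :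
    Sym (chev (p := 2) tyB2 hk he) (szA k 0) (datB2 hk 0).Mx swE (![1, 0] : Fin 2 → ℕ) :=
  Sym.of_withF (D := chev (p := 2) tyB2 hk he) (datB2 hk 0).amb (datB2 hk 0).g (datB2 hk 0).ex (datB2 hk 0).g_root
    (datB2 hk 0).F_x (datB2 hk 0).F_τ
    (fun y => Spc.emb_comm (iterateFrobenius k 2 e) (F₀ := (szA k 0).toMonoidHom) (spc_B2 k 0) (spc_B2 k 0) y) (qs_B2 hk 0) (ex_B2 hk 0)

theorem szA_pow (n : ℕ) (y : ↥(chevB2.group k)) : (szA k 0 ^ (2 * n)) y = frobA tyB2.inList 2 n y := by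
  have h : szA k 0 ^ 2 = frobA tyB2.inList 2 1 := MulEquiv.ext fun y => (spc_B2 k 0).sq (spcD_B2 0) y
  rw [pow_mul, h, frobA_pow tyB2]

theorem σ_Sz (m : ℕ) : (datB2 hk m).σ = swE := Equiv.ext (qs_B2 hk m).σ_eq

end twisted

variable (hB : Boxes) (F : Type) [Field F] [Fintype F]

include hB

theorem box_sp [CharP F 2] {n : ℕ} (hn : 2 ≤ n) (h : 4 ≤ Fintype.card F) : Box (symplecticGroup (Fin n) F) := by
  obtain ⟨e, he, hF, _, hk⟩ := exists_setup F
  have he2 := two_le_of F he hF (by omega)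
  have hZ := center_spC (n := n) (F := F)
  have h1 := Nat.card_congr (MulAut.congr (spEquivC n F)).toEquiv
  have h2 := Nat.card_congr (spEquivC n F).toEquiv
  obtain rfl | hn := hn.eq_or_lt
  · have hE := emb_B2C (algebraMap F (AlgebraicClosure F)) hF he
    refine hB.b3 (D := chev (p := 2) tyB2 hk he) (π := swE) (P := fun _ => True) hZ
      ⟨md_of_emb (good_chev hk he tyB2 (hn_B2 hk he he2)) hE hZ, Or.inl (sep_chev (m := 1) invC_B2 _), fun i => ?_,
        fun _ => Iff.rfl⟩ (sym_B2 hk he) (stab_of_emb (D := chev (p := 2) tyB2 hk he) hE (sym_B2 hk he))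
      (show swE * swE = 1 by decide) (show swE ≠ 1 by decide)
      (show ∀ i : Fin 2, (![1, 0] : Fin 2 → ℕ) i + (![1, 0] : Fin 2 → ℕ) (swE i) = 1 by decide)
      (fun _ => Iff.rfl) (e := e) (σ_chev tyB2 hk he) (fun _ => rfl) (fun s => ?_)
      (h1 ▸ h2 ▸ card_aut_psp_two' hF he2)
    · rw [σ_chev]
      exact ⟨rfl, rfl⟩
    · rw [szA_pow]
      exact frobA_emb _ _ hF _
  · replace hk := lf_of_locFin (p := 2) hk
    have hE := embC1 (n := n) (algebraMap F (AlgebraicClosure F)) hF hk he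
    have hS := sym_dat (mnC n) (csC n) (TypeC.isCartan n) hk he
    refine hB.b1 (D := (mnC n).dat (csC n) (TypeC.isCartan n) hk he) (r := 1) (P := fun _ => True) hZ
      ⟨md_of_emb (goodC hk he he2) hE hZ, Or.inl (sep_C n _), fun i => ?_, fun _ => Iff.rfl⟩ hS (stab_of_emb hE hS)
      (e := e) (l := 1) (⟨0, by omega⟩ : Fin n) (fun _ => rfl) ?_ (fun s => ?_)
      (by rw [one_mul]; exact h1 ▸ h2 ▸ card_aut_psp' hF he hn)
    · rw [σ_dat]
      exact ⟨rfl, rfl⟩
    · rw [σ_dat]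
      exact Function.minimalPeriod_id
    · rw [one_mul, one_mul, frA_pow, mul_one]
      exact (hE.mem s).2

theorem box_sz {m : ℕ} (hm : 1 ≤ m) (hF : Fintype.card F = 2 ^ (2 * m + 1)) : Box ↥(Lie.Sz F (2 ^ (m + 1))) := by
  obtain ⟨_, _, hk⟩ := setup' Nat.prime_two (by omega) hF
  have hE := emb_B2 (algebraMap F (AlgebraicClosure F)) hF
  have hZ : Subgroup.center ↥(Lie.Sz F (2 ^ (m + 1))) = ⊥ := H67.SzOdd.center_sz hm hF
  refine hB.b0 (D := datB2 hk m) (r := swE) (P := fun _ => True) hZ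
    ⟨md_of_emb (good_Sz hk hm) hE hZ, Or.inl (sep_chev (m := 1) invC_B2 _), fun i => ?_,
      fun _ => Iff.rfl⟩ ⟨2 * m + 1, ⟨m, rfl⟩, by rw [Nrm.card_out hZ, S2126.result hm hF, mul_comm]⟩
  rw [σ_Sz]
  have h : swE (swE i) = i := swE.left_inv i
  exact ⟨congrArg swE h, congrArg (fun j => (datB2 hk m).ex (sr j)) h⟩

end Cfsg.Agent.GAL.C2.RC

namespace Cfsg.Agent.GAL.C2

open Cfsg

/-- `BoxTwo.psp` -/
theorem box_psp (hB : Boxes) (F : Type) [Field F] [Fintype F] [CharP F 2] (m : ℕ) (hm : 2 ≤ m)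
    (h : 4 ≤ Fintype.card F) (_ : IsSimpleGroup (PSp m F)) : Box (PSp m F) :=
  have : Finite (PSp m F) := Finite.of_equiv _ (ODD.C2.spEquivC m F).symm.toEquiv
  Box.congr (ODD.C2.spEquivC m F) (RC.box_sp hB F hm h)

/-- `BoxTwo.sz` -/
theorem row_sz (hB : Boxes) : RowG fun S _ => Lie.IsoSuzuki S := by
  rintro S _ _ _ ⟨F, _, _, m, hm, hF, ⟨e⟩⟩
  exact Box.congr e (RC.box_sz hB F hm hF)

end Cfsg.Agent.GAL.C2
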