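import Cfsg.Agent.GAL.C2.RowX
import Cfsg.Agent.GAL.Rows
import Cfsg.Agent.ODD.C2.OmFin
import Cfsg.Agent.S0817
import Cfsg.Agent.S0818

/-!
# S4617 / S4618, characteristic 2: the orthogonal groups in even dimension (helper63, GAL)

`row_plus`, `row_minus` : the fields `plus` and `minus` of `GAL.Fin.BoxTwo`.
Reusable: `RD.md_quot` (the model `X → X / Z(X)` if `X = G^F`), `RD.center_quot`, `RD.sym_datT`, `RD.σ_datT`
(minuscule data).
-/

set_option autoImplicit false
set_option maxHeartbeats 400000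
set_option linter.unusedSectionVars false

namespace Cfsg.Agent.GAL.C2.RD

open Cfsg CoxeterSystem Cfsg.Agent.ChevalleyStructure.CoxeterGeom Cfsg.Agent.Tits.Roots Cfsg.Agent.Nodes Matrix
open Cfsg.Agent.DL Cfsg.Agent.DL.PP Cfsg.Agent.ODD.C2 Cfsg.Agent.GAL.C2.RX

/-- a simple quotient by the centre has trivial centre -/
theorem center_quot {X : Type} [Group X] (h : IsSimpleGroup (X ⧸ Subgroup.center X)) :
    Subgroup.center (X ⧸ Subgroup.center X) = ⊥ := by
  refine Nrm.center_eq_bot h fun hc => ?_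
  obtain ⟨g, hg⟩ := exists_ne (1 : X ⧸ Subgroup.center X)
  have h1 : (Subgroup.zpowers g).Normal := ⟨fun x hx y => by rwa [hc.is_comm.comm y, mul_inv_cancel_right]⟩
  have h2 : IsCyclic (X ⧸ Subgroup.center X) :=
    ⟨⟨g, (Subgroup.eq_top_iff' _).1
      ((h.eq_bot_or_eq_top_of_normal _ h1).resolve_left (Subgroup.zpowers_ne_bot.2 hg))⟩⟩
  have h3 := isMulCommutative_of_isCyclic_quotient_center_self X
  obtain ⟨x, rfl⟩ := QuotientGroup.mk_surjective g
  exact hg ((QuotientGroup.eq_one_iff x).2 (Subgroup.mem_center_iff.2 fun y => h3.is_comm.comm y x))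

section gen

variable {k : Type} [Field k] [CharP k 2] {Y : Type} [Group Y] {N : Type} [Fintype N]
  [DecidableEq N] {ρ : Y →* GL N k} {F : MulAut Y} {G : Subgroup Y} [IsAlgClosed k] {D : Datum 2 ρ F G}
  {X : Type} [Group X] {ι : X →* Y}

/-- the model if `X = G^F` -/
theorem md_quot (hG : Good D) (h : Emb F G D.T ι 1) : Md D ι (QuotientGroup.mk' (Subgroup.center X)) where
  good := hG
  emb := ⟨1, odd_one, h⟩
  surj := QuotientGroup.mk'_surjective _
  ker s := QuotientGroup.eq_one_iff s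
  sc := sc_of_surj fun _ hy => range_of_emb h hy

end gen

section mn

variable {I : Type} [Fintype I] [DecidableEq I] {A : I → I → ℤ} {R N : Type} [Fintype R] [DecidableEq R] [Fintype N]
  [DecidableEq N] {m : Mn A R N} {k : Type} [Field k] [CharP k 2] [IsAlgClosed k]
  {W : Type} [Group W] [Finite W] {M : CoxeterMatrix I} {cs : CoxeterSystem M W} {h : IsCartan M A}
  {α β : MulAut (GL N k)} {g g' : (I → ℤ) → I → ℤ} {B B' : Matrix R R ℤ}
  (hk : ∀ a : k, ∃ j, 0 < j ∧ a ^ 2 ^ j = a) {e : ℕ} (he : 0 < e)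

theorem frA_one_pow (e : ℕ) : frA N k 1 ^ e = frA N k e := by rw [frA_pow, mul_one]

theorem comm_fr (S : m.Sy cs h α g B) (S' : m.Sy cs h β g' B') (hc : Commute β α) (e : ℕ) :
    Commute (β * frA N k 1) (α * frA N k e) :=
  (hc.mul_right (S'.commute e)).mul_left
    ((S.commute 1).symm.mul_right (frA_one_pow (N := N) (k := k) e ▸ Commute.self_pow _ e))

/-- a symmetry of the frame times the Frobenius map of the prime field -/
theorem sym_datT (S : m.Sy cs h α g B) (hα : IsOfFinOrder α) (S' : m.Sy cs h β g' B') (hβ : IsOfFinOrder β)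
    (hc : Commute β α) {π : Equiv.Perm I} (hπ : ∀ i, g' (sr i) = sr (π i)) :
    Sym (m.datT hk he S hα) (β * frA N k 1) (m.datT hk one_pos S' hβ).Mx π fun _ => 1 :=
  Sym.of_withF (D := m.datT hk he S hα) (m.datT hk one_pos S' hβ).amb (m.datT hk one_pos S' hβ).g
    (m.datT hk one_pos S' hβ).ex (m.datT hk one_pos S' hβ).g_root (m.datT hk one_pos S' hβ).F_x
    (m.datT hk one_pos S' hβ).F_τ (fun y => DFunLike.congr_fun (comm_fr S S' hc e).eq y) hπ fun _ => rfl

theorem σ_datT (S : m.Sy cs h α g B) (hα : IsOfFinOrder α) {π : Equiv.Perm I} (hπ : ∀ i, g (sr i) = sr (π i)) :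
    (m.datT hk he S hα).σ = π :=
  Equiv.ext (Datum.QSp.σ_eq (D := m.datT hk he S hα) (π := π) hπ)

end mn

theorem mul_comm_of {I : Type} [Fintype I] [DecidableEq I] {X Y : Matrix I I ℤ} {c : ℤ} (hc : c ≠ 0)
    (h : X * Y = c • (1 : Matrix I I ℤ)) : Y * X = c • (1 : Matrix I I ℤ) := by
  have h0 : X.det ≠ 0 := fun e => by
    have := congrArg det h
    rw [det_mul, e, zero_mul, det_smul, det_one, mul_one] at this
    exact pow_ne_zero _ hc this.symm
  have h2 : X.det • (Y * X) = X.det • (c • (1 : Matrix I I ℤ)) := by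
    rw [← Matrix.smul_mul, ← Matrix.one_mul Y, ← Matrix.smul_mul, ← adjugate_mul, Matrix.mul_assoc X.adjugate,
      h, Matrix.mul_assoc, Matrix.smul_mul, Matrix.one_mul, Matrix.mul_smul, adjugate_mul, smul_comm]
  exact smul_right_injective _ h0 h2

/-- type `D` : four times the inverse of the Cartan matrix is integral -/
theorem sepD (k : Type) [Field k] [CharP k 2] (n : ℕ) (P : Fin (n + 2) → Prop) : Sep k (TypeD.A n) P := by
  have h1 : of (TypeD.bt (n := n)) * (of (cwD (n := n)))ᵀ = (2 : ℤ) • (1 : Matrix _ _ ℤ) := by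
    ext j i
    have h := ee_cwD (sr j) i
    rw [TypeD.ee_sr, pow_one, sr, Pi.single_apply] at h
    rw [Matrix.smul_apply, one_apply, smul_eq_mul, if_congr eq_comm rfl rfl, ← h]
    rfl
  have h2 : of (TypeD.A n) = of (TypeD.bt (n := n)) * (of (TypeD.bt (n := n)))ᵀ := by
    ext i j
    rw [of_apply, TypeD.A, ← dot_btD, dotProduct_comm]
    rfl
  refine sep_of_inv (m := 2) (of cwD * (of cwD)ᵀ) ?_ P
  have h3 := congrArg transpose h1
  rw [transpose_mul, transpose_transpose, transpose_smul, transpose_one] at h3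
  rw [h2, Matrix.mul_assoc, ← Matrix.mul_assoc (of cwD)ᵀ, mul_comm_of two_ne_zero h1, Matrix.smul_mul, Matrix.one_mul,
    Matrix.mul_smul, h3, smul_smul, sq]

theorem pd_ne (n : ℕ) : TypeD.pd n ≠ Fin.last (n + 1) := fun h => by
  have := congrArg Fin.val h
  simp [TypeD.pd] at this

theorem piD_ne (n : ℕ) : piD n ≠ 1 := fun h => pd_ne n (Equiv.swap_eq_one_iff.1 h)

theorem piD_sq (n : ℕ) : piD n * piD n = 1 := Equiv.swap_mul_self _ _

theorem period_piD (n : ℕ) : Function.minimalPeriod (piD n) (Fin.last (n + 1)) = 2 :=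
  Function.minimalPeriod_eq_prime (Equiv.swap_apply_self _ _ _) fun h =>
    pd_ne n ((Equiv.swap_apply_right _ _).symm.trans h)

end Cfsg.Agent.GAL.C2.RD

namespace Cfsg.Agent.GAL.C2

open Cfsg Cfsg.Agent.Nodes Cfsg.Agent.DL Cfsg.Agent.ODD.C2 Cfsg.Agent.GAL.C2.RX Cfsg.Agent.GAL.C2.RD

section rows

variable (hB : Boxes) (F : Type) [Field F] [Fintype F] [CharP F 2]

include hB

/-- **`PΩ⁺_{2m}(q)`, `q` even** -/
theorem box_plus (m : ℕ) (hm : 4 ≤ m) (hS : IsSimpleGroup (POmega F (quadFormPlus m F))) :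
    Box (POmega F (quadFormPlus m F)) := by
  obtain ⟨e, he, hF, _, hl⟩ := exists_setup F
  have hA := S0817.result 2 e he hF m hm
  obtain ⟨n, rfl⟩ : ∃ n, m = n + 2 := ⟨m - 2, by omega⟩
  have := finD n
  have hk := Ex.lf_of_locFin (p := 2) hl
  obtain ⟨ι, E⟩ := embP (csD n) (algebraMap F (AlgebraicClosure F)) hF (by omega)
  have hσ := σ_datT hk he ((mnD n).sy_one (cs := csD n) (h := TypeD.isCartan n)) IsOfFinOrder.one (π := 1) fun _ => rfl
  have h1 := sym_datT hk he ((mnD n).sy_one (cs := csD n) (h := TypeD.isCartan n)) IsOfFinOrder.one (mnD n).sy_one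
    IsOfFinOrder.one (Commute.refl _) (π := 1) fun _ => rfl
  have h2 := sym_datT hk he ((mnD n).sy_one (cs := csD n) (h := TypeD.isCartan n)) IsOfFinOrder.one syD
    (Mn.fin_pm _) (Commute.one_right _) gD_sr
  refine hB.b2 (D := (mnD n).dat (csD n) (TypeD.isCartan n) hk he) (P := fun _ => True) (center_quot hS)
    ⟨md_quot (goodP hk he) E, Or.inl (sepD _ n _), fun i => ⟨by rw [hσ]; rfl, rfl⟩, fun _ => Iff.rfl⟩ h1 h2
    (stab_of_emb E h1) (stab_of_emb E h2) (comm_fr (syD (cs := csD n)) (mnD n).sy_one (Commute.one_left _) 1) ?_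
    (piD_sq n) (piD_ne n) (fun _ => Iff.rfl) (e := e) hσ (fun _ => rfl) (fun s => ?_)
    ⟨if n + 2 = 4 then 3 else 1, by split_ifs <;> decide, by rw [hA, if_pos rfl]; ring⟩
  · rw [((syD (cs := csD n)).commute 1).mul_pow, conj_swD_sq, one_mul, one_mul]
  · have h3 := (E.mem s).2
    rw [one_mul] at h3
    rw [one_mul, frA_one_pow]
    exact h3

/-- **`PΩ⁻_{2m}(q)`, `q` even** -/
theorem box_minus (m : ℕ) (a b : F) (hm : 4 ≤ m)
    (hab : ∀ z₁ z₂ : F, z₁ ^ 2 + a * z₁ * z₂ + b * z₂ ^ 2 = 0 → z₁ = 0 ∧ z₂ = 0)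
    (hS : IsSimpleGroup (POmega F (quadFormMinus (m - 1) F a b))) : Box (POmega F (quadFormMinus (m - 1) F a b)) := by
  obtain ⟨e, he, hF, _, hl⟩ := exists_setup F
  have hA := S0818.result 2 e he hF m hm a b hab
  obtain ⟨n, rfl⟩ : ∃ n, m = n + 2 := ⟨m - 2, by omega⟩
  have := finD n
  have hk := Ex.lf_of_locFin (p := 2) hl
  obtain ⟨ι, E⟩ := embM (csD n) (algebraMap F (AlgebraicClosure F)) hF (by omega) hab
  have hσ := σ_datT hk he (syD (cs := csD n)) (Mn.fin_pm _) gD_sr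
  have h1 := sym_datT hk he (syD (cs := csD n)) (Mn.fin_pm _) (mnD n).sy_one
    IsOfFinOrder.one (Commute.one_left _) (π := 1) fun _ => rfl
  refine hB.b1 (D := (mnD n).datT hk he (syD (cs := csD n)) (Mn.fin_pm _)) (r := 1) (P := fun _ => True)
    (center_quot hS) ⟨md_quot (goodM hk he) E, Or.inl (sepD _ n _), fun i => ⟨?_, rfl⟩, fun _ => Iff.rfl⟩ h1
    (stab_of_emb E h1) (e := e) (l := 2) (Fin.last (n + 1)) (fun _ => rfl) ?_ (fun s => ?_)
    ⟨1, odd_one, by rw [mul_one, mul_comm]; exact hA⟩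
  · rw [hσ]
    exact Equiv.swap_apply_self _ _ _
  · rw [hσ]
    exact period_piD n
  · rw [one_mul, frA_one_pow]
    exact Mn.Sy.fix_le (mnD n) (syD (cs := csD n)) conj_swD_sq e (E.mem s).2

end rows

/-- the field `plus` of `GAL.Fin.BoxTwo` -/
theorem row_plus (hB : Boxes) : RowG fun S _ => IsPOmegaPlusChar 2 S := by
  rintro S _ _ hS ⟨F, _, _, _, m, hm, ⟨e⟩⟩
  exact Box.congr e (box_plus hB F m hm e.symm.isSimpleGroup)

/-- the field `minus` of `GAL.Fin.BoxTwo` -/
theorem row_minus (hB : Boxes) : RowG fun S _ => IsPOmegaMinusChar 2 S := by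
  rintro S _ _ hS ⟨F, _, _, _, m, a, b, hm, hab, ⟨e⟩⟩
  exact Box.congr e (box_minus hB F m a b hm hab e.symm.isSimpleGroup)

end Cfsg.Agent.GAL.C2
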