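import Cfsg.Agent.GAL.Two.Dda
import Cfsg.Agent.GAL.Nrm.Exc
import Cfsg.Agent.ODD.C2.E6c
import Cfsg.Agent.ODD.C2.Exc
import Cfsg.Agent.S1070
import Cfsg.Agent.S2123
import Cfsg.Agent.S2130

/-!
# S4617 / S4618, characteristic 2: `E₆(q)` and `²E₆(q)` (helper60, GAL)

`X` is the subgroup generated by the 2-elements of `G^F`, `G` the group of the 27-dimensional weight system.
`box_E6`, `box_tE6`.
-/

set_option autoImplicit false
set_option maxHeartbeats 400000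
set_option linter.unusedSectionVars false

namespace Cfsg.Agent.GAL.C2.RE

open Cfsg Subgroup Cfsg.Agent.DL Cfsg.Agent.DL.PP Cfsg.Agent.DL.St Cfsg.Agent.ODD.C2 Cfsg.Agent.ODD.C2.E6c
  Cfsg.Agent.GAL.Two Cfsg.Agent.Tits.Roots

section gen

variable {Y : Type} [Group Y] {F : MulAut Y} {G : Subgroup Y}

variable (F G) in
/-- the embedding of the subgroup generated by the 2-elements -/
def io : O2 (GF F G) →* Y := (GF F G).subtype.comp (O2 (GF F G)).subtype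

theorem io_inj : Function.Injective (io F G) := Subtype.val_injective.comp Subtype.val_injective

theorem io_mem (s : O2 (GF F G)) : io F G s ∈ GF F G := s.1.2

theorem mem_io {y : GF F G} : (y : Y) ∈ (io F G).range ↔ y ∈ O2 (GF F G) :=
  ⟨fun ⟨s, hs⟩ => Subtype.ext (p := (· ∈ GF F G)) hs ▸ s.2, fun h => ⟨⟨y, h⟩, rfl⟩⟩

theorem two_mem {y : Y} (hy : y ∈ GF F G) {j : ℕ} (h : y ^ 2 ^ j = 1) : y ∈ (io F G).range :=
  (mem_io (y := ⟨y, hy⟩)).2 (subset_closure ⟨j, Subtype.ext h⟩)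

theorem io_le {H : Subgroup Y} (h : ∀ y ∈ GF F G, ∀ j : ℕ, y ^ 2 ^ j = 1 → y ∈ H) (s : O2 (GF F G)) :
    io F G s ∈ H :=
  have h1 : O2 (GF F G) ≤ H.comap (GF F G).subtype :=
    (closure_le _).2 fun y hy => hy.elim fun j hj => h y y.2 j (congrArg Subtype.val hj)
  h1 s.2

theorem stab_io {α : MulAut Y} (hα : ∀ y ∈ GF F G, α y ∈ GF F G) (s : O2 (GF F G)) :
    α (io F G s) ∈ (io F G).range :=
  io_le (H := (io F G).range.comap α.toMonoidHom)
    (fun y hy j h => two_mem (hα y hy) (j := j) (by rw [← map_pow, h, map_one])) s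

/-- the quotient map -/
theorem exists_pr {E St S : Type} [Group E] [Group St] [Group S] (ψ : St →* Y) (θ : St →* E) {F' : MulAut E}
    (ι : S →* E) (hι : Function.Injective ι) {d : ℕ} (hd : Odd d) (hpow : ∀ y, F' y = y → y ^ d ∈ ι.range)
    (hker : ∀ s, ψ s = 1 → θ s = 1) (hcen : ∀ s, θ s = 1 → s ∈ center St)
    (hG : ∀ y ∈ G, ∃ m, Odd m ∧ y ^ m ∈ ψ.range) (hF : ∀ s, ∃ s', ψ s' = F (ψ s) ∧ θ s' = F' (θ s))
    (hgen : ∀ H : Subgroup S, (∀ x s, ψ s ∈ G → F (ψ s) = ψ s → ψ s ^ 2 = 1 → θ s = ι x → x ∈ H) → H = ⊤)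
    (hZ : center S = ⊥) :
    ∃ pr : O2 (GF F G) →* S, Function.Surjective pr ∧ ∀ s, pr s = 1 ↔ s ∈ center (O2 (GF F G)) := by
  have heq : ∀ s s', ψ s = ψ s' → θ s = θ s' := fun s s' h => by
    have h1 := hker (s⁻¹ * s') (by rw [map_mul, map_inv, h, inv_mul_cancel])
    rwa [map_mul, map_inv, inv_mul_eq_one] at h1
  have hex : ∀ y ∈ O2 (GF F G), ∃ s x, ψ s = y ∧ θ s = ι x := by
    intro y hy
    induction hy using closure_induction with
    | mem y hy =>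
      obtain ⟨i, hi⟩ := hy
      have h1 : (y : Y) ^ 2 ^ i = 1 := congrArg Subtype.val hi
      obtain ⟨m, hm, h2⟩ := hG y y.2.1
      obtain ⟨s, hs⟩ := mem_of_odd_pow h1 hm h2
      obtain ⟨s', h3, h4⟩ := hF s
      have h5 : F' (θ s) = θ s := by rw [← h4]; exact heq _ _ (by rw [h3, hs]; exact y.2.2)
      have h6 : θ s ^ 2 ^ i = 1 := by rw [← map_pow]; exact hker _ (by rw [map_pow, hs, h1])
      obtain ⟨x, hx⟩ := mem_of_odd_pow h6 hd (hpow _ h5)
      exact ⟨s, x, hs, hx.symm⟩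
    | one => exact ⟨1, 1, map_one _, by rw [map_one, map_one]⟩
    | mul y z _ _ h1 h2 =>
      obtain ⟨s, x, a1, a2⟩ := h1
      obtain ⟨s', x', b1, b2⟩ := h2
      exact ⟨s * s', x * x', by rw [map_mul, a1, b1]; rfl, by rw [map_mul, map_mul, a2, b2]⟩
    | inv y _ h1 =>
      obtain ⟨s, x, a1, a2⟩ := h1
      exact ⟨s⁻¹, x⁻¹, by rw [map_inv, a1]; rfl, by rw [map_inv, map_inv, a2]⟩
  choose st xs hst hxs using fun y : O2 (GF F G) => hex y y.2
  let σ : O2 (GF F G) →* S := MonoidHom.mk' xs fun a b => hι (by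
    rw [map_mul, ← hxs, ← hxs, ← hxs, ← map_mul]
    exact heq _ _ (by rw [map_mul, hst, hst, hst]; rfl))
  have hσ : ∀ (y : O2 (GF F G)) s, ψ s = y → θ s = ι (σ y) := fun y s h => by
    rw [show σ y = xs y from rfl, ← hxs]
    exact heq _ _ (by rw [h, hst])
  have hs : Function.Surjective σ := by
    rw [← MonoidHom.range_eq_top]
    refine hgen _ fun x s h1 h2 h3 h4 => ?_
    have h5 : (⟨ψ s, h1, h2⟩ : GF F G) ∈ O2 (GF F G) := subset_closure ⟨1, Subtype.ext (by rw [pow_one]; exact h3)⟩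
    exact ⟨⟨_, h5⟩, hι (by rw [← hσ _ s rfl, h4])⟩
  refine ⟨σ, hs, fun y => ⟨fun hy => mem_center_iff.2 fun z => Subtype.ext (Subtype.ext ?_), fun hy => ?_⟩⟩
  · have h1 := congrArg ψ (mem_center_iff.1 (hcen (st y) (by rw [hσ y _ (hst y), hy, map_one])) (st z))
    rwa [map_mul, map_mul, hst, hst] at h1
  · rw [← mem_bot, ← hZ, mem_center_iff]
    intro x
    obtain ⟨z, rfl⟩ := hs x
    rw [← map_mul, ← map_mul, mem_center_iff.1 hy z]

variable {k : Type} [Field k] [CharP k 2] {N : Type} [Fintype N] [DecidableEq N] {ρ : Y →* GL N k} [IsAlgClosed k]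
  {D : Datum 2 ρ F G}

/-- Frattini : `G^F = O²'(G^F) T^F` -/
theorem emb_io (h : D.QS) : ∃ d, Odd d ∧ Emb F G D.T (io F G) d := by
  have := fact2
  have := D.amb.finite_GF G
  have hn := O2_normal (GF F G)
  refine ⟨_, O2_index (GF F G), io_inj, io_mem, fun y hy s => ?_, fun y hy => ?_, fun y hy => ?_⟩
  · exact mem_io.2 (hn.conj_mem _ s.2 ⟨y, hy⟩)
  · have e1 := Subgroup.subgroupOfEquivOfLe (inf_le_right : D.U ⊓ GF F G ≤ GF F G)
    let P : Sylow 2 (GF F G) := Sylow.ofCard ((D.U ⊓ GF F G).subgroupOf (GF F G)) (by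
      rw [Nat.card_congr e1.toEquiv,
        card_U D.sbn (aut_qs h) (fun _ => mem_GF) D.isPGroup_U (fun _ => St.eq_one_of_pow D) (move h)])
    have hP : ∀ u : GF F G, u ∈ (P : Subgroup (GF F G)) ↔ (u : Y) ∈ D.U ⊓ GF F G := fun _ => Iff.rfl
    have h1 : (P : Subgroup (GF F G)) ≤ O2 (GF F G) := fun u hu => by
      obtain ⟨j, hj⟩ := pow_U D ((hP u).1 hu).1
      exact mem_io.1 (two_mem u.2 hj)
    have h2 : (⟨y, hy⟩ : GF F G) ∈ ((O2 (GF F G) ⊔ normalizer P : Subgroup (GF F G)) : Set (GF F G)) := by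
      rw [sup_comm, P.normalizer_sup_eq_top' h1]
      trivial
    rw [normal_mul] at h2
    obtain ⟨s, hs, n, hn', h3⟩ := h2
    obtain ⟨u, hu, t, ht, h4⟩ := exists_BF h n.2 fun v hv => by
      have h5 := (mem_normalizer_iff.1 (inv_mem hn') ⟨v, hv.2⟩).1 ((hP _).2 hv)
      rw [inv_inv] at h5
      exact ((hP _).1 h5).1
    refine ⟨⟨s * ⟨u, hu.2⟩, mul_mem hs (h1 ((hP _).2 hu))⟩, t, ⟨ht.1, ht.2.2⟩, ?_⟩
    have h5 : (s : Y) * n = y := congrArg Subtype.val h3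
    rw [← h5, h4, ← mul_assoc]
    rfl
  · exact (mem_io (y := ⟨y, hy⟩ ^ _)).2 (pow_index_mem _ _)

end gen

section e6

open CoxeterSystem Cfsg.Lie Cfsg.Agent.ChevalleyStructure Cfsg.Agent.ChevalleyStructure.CoxeterGeom
  Cfsg.Agent.ChevalleyStructure.CoxeterGeomTypes Cfsg.Agent.Nodes Cfsg.Agent.Nodes.RGDChev
  Cfsg.Agent.Nodes.Coroot Cfsg.Agent.KFacts.RgdChevCoord Cfsg.Agent.GpExc.Field Matrix
open Cfsg.Agent.H493.TwE6Alg (dua isRoot_dua dua_sr dua_two dua_vec tau coe_tau embT coe_embT)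

attribute [local instance] finW6

variable {k : Type} [Field k] [CharP k 2]

/-- the coroot torus -/
def ct : (Fin 6 → kˣ) →* (Fin 7 → kˣ) where
  toFun x := ∏ i, coch (cw6 i) (x i)
  map_one' := by simp
  map_mul' a b := by simp [Finset.prod_mul_distrib]

theorem ct_apply (x : Fin 6 → kˣ) : ct x = ∏ i, coch (cw6 i) (x i) := rfl

theorem ct_single (i : Fin 6) (s : kˣ) : ct (Pi.mulSingle i s) = coch (cw6 i) s := by
  rw [ct_apply, Finset.prod_eq_single i (fun j _ hj => by rw [Pi.mulSingle_eq_of_ne hj, map_one]) (by simp),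
    Pi.mulSingle_eq_same]

/-- fundamental weights -/
def om6 : Fin 6 → Fin 7 → ℤ := ![![0, 0, 0, 0, 0, 0, 1], ![1, 2, 2, 3, 2, 1, 0], ![3, 3, 5, 6, 4, 2, -1],
  ![2, 3, 4, 6, 4, 2, 0], ![0, 1, 1, 2, 2, 1, 1], ![2, 2, 3, 4, 3, 2, -1]]

theorem om6_cw6 : ∀ i j : Fin 6, ∑ a, om6 i a * cw6 j a = if j = i then 1 else 0 := by decide +kernel

theorem chr_ct (i : Fin 6) (x : Fin 6 → kˣ) : chr (om6 i) (ct x) = x i := by
  rw [ct_apply, map_prod, Finset.prod_eq_single i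
    (fun j _ hj => by rw [chr_coch, om6_cw6, if_neg hj, zpow_zero]) (by simp), chr_coch, om6_cw6, if_pos rfl, zpow_one]

theorem ct_inj : Function.Injective (ct (k := k)) := fun x y h => funext fun i => by rw [← chr_ct i x, h, chr_ct]

/-- coroots and scalars -/
def M7 : Matrix (Fin 7) (Fin 7) ℤ := !![2, 0, -1, 0, 0, 0, 0; 0, 2, 0, -1, 0, 0, 0; -1, 0, 2, -1, 0, 0, 0;
  0, -1, -1, 2, -1, 0, 0; 0, 0, 0, -1, 2, -1, 0; 0, 0, 0, 0, -1, 2, 0; 1, 0, 0, 0, 0, 0, 1]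

theorem M7_det : M7.det ≠ 0 := fun h => by
  have h1 : !![4, 3, 5, 6, 4, 2, 0; 3, 6, 6, 9, 6, 3, 0; 5, 6, 10, 12, 8, 4, 0; 6, 9, 12, 18, 12, 6, 0;
      4, 6, 8, 12, 10, 5, 0; 2, 3, 4, 6, 5, 4, 0; -4, -3, -5, -6, -4, -2, 3] * M7 =
      (3 : ℤ) • (1 : Matrix (Fin 7) (Fin 7) ℤ) := by decide +kernel
  have h2 := congrArg det h1
  rw [det_mul, h, mul_zero, det_smul, det_one, mul_one] at h2
  exact pow_ne_zero _ three_ne_zero h2.symm

theorem M7_cw : ∀ (j : Fin 7) (i : Fin 6), M7 j i.castSucc = cw6 i j := by decide +kernel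

theorem M7_last : ∀ j : Fin 7, M7 j (Fin.last 6) = (![0, 0, 0, 0, 0, 0, 1] : Fin 7 → ℤ) j := by decide +kernel

theorem mon_M7 (b : Fin 7 → kˣ) :
    mon M7 b = ct (fun i => b i.castSucc) * coch ![0, 0, 0, 0, 0, 0, 1] (b (Fin.last 6)) := by
  funext j
  rw [mon_apply, chr_apply, Fin.prod_univ_castSucc, Pi.mul_apply, ct_apply, Finset.prod_apply, M7_last, coch_apply]
  simp only [M7_cw, coch_apply]

theorem τ_ct_mem {H : Subgroup (GL (Fin 27) k)} {x : Fin 6 → kˣ} (h : ∀ i, mn6.τ k (coch (mn6.cw i) (x i)) ∈ H) :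
    mn6.τ k (ct x) ∈ H := Subgroup.prod_mem (H.comap (mn6.τ k)) (t := Finset.univ) fun i _ => h i

variable [IsAlgClosed k] {θ : chevE6.SteinbergGroup k →* chevE6.group k}

theorem th_surj (T : Th k θ) : Function.Surjective θ := fun y => by
  have h1 : chevE6.group k ≤ θ.range.map (chevE6.group k).subtype := by
    rw [Elts.group_le_iff hp6.inList]
    intro r hr t
    exact ⟨_, ⟨_, T.gen r hr t⟩, coe_xc hp6 hr t⟩
  obtain ⟨z, hz, h2⟩ := h1 y.2
  rwa [← Subtype.ext h2]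

theorem th_ker (T : Th k θ) {s : chevE6.SteinbergGroup k} (hs : θ s = 1) : ∃ x, mn6.τ k (ct x) = psi6 k s := by
  have h3 : ∀ (r : ℕ) (t : k), r < chevE6.nroots →
      ((θ (chevE6.stGen k r t) : GL chevE6.Idx k) : Matrix chevE6.Idx chevE6.Idx k) = chevE6.x k r t :=
    fun r t hr => by rw [T.gen r hr, coe_xc hp6 hr]; rfl
  have h4 : psi6 k s ∈ ((mn6.τ k).comp ct).range := by
    refine ((Subgroup.closure_le (((mn6.τ k).comp ct).range.comap (psi6 k))).2 ?_)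
      (S1097.result chevE6 hp6.inList θ h3 hs)
    rintro _ ⟨i, t, hi, ht, rfl⟩
    have hr := NPerm.simple_lt hp6.inList hi
    have hi' : i < 6 := hi
    have h5 : vec chevE6 6 (chevE6.simple i) = sr ⟨i, hi'⟩ := vec_simple hp6 ⟨i, hi'⟩
    have h6 := gen6_h (k := k) hr (Units.mk0 t ht)
    rw [h5, hw_sr mn6 cs6 hc6] at h6
    refine ⟨Pi.mulSingle ⟨i, hi'⟩ (Units.mk0 t ht), ?_⟩
    rw [MonoidHom.comp_apply, ct_single]
    refine h6.symm.trans (Eq.trans ?_ (StBasic.map_wd chevE6 (psi6 k) _).symm)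
    simp only [psi6_gen', Units.val_mk0]
  exact h4

/-- the torus of the simply connected group -/
theorem tor_ct {c : Fin 7 → kˣ} (hc : mn6.τ k c ∈ (psi6 k).range) : ∃ x, c = ct x := by
  obtain ⟨θ, T⟩ := exists_th k
  obtain ⟨b, rfl⟩ := mon_surj M7_det c
  rw [mon_M7] at hc ⊢
  have h1 : mn6.τ k (ct fun i => b i.castSucc) ∈ (psi6 k).range := τ_ct_mem fun i =>
    hw_mem (P := ⊤) (fun a ha u _ => x_mem_range (root_pm ha) u) trivial
  rw [map_mul] at hc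
  obtain ⟨s, hs⟩ : om (b (Fin.last 6)) ∈ (psi6 k).range := (mul_mem_cancel_left h1).1 hc
  have h2 : θ s ∈ center (chevE6.group k) := mem_center_iff.2 fun y => by
    obtain ⟨s', rfl⟩ := th_surj T y
    have h3 := T.ker ((s' * s)⁻¹ * (s * s')) (by
      rw [map_mul, map_inv, map_mul, map_mul, hs, om_comm, inv_mul_cancel])
    rwa [map_mul, map_inv, inv_mul_eq_one, map_mul, map_mul] at h3
  rw [H70.OutCount.center_eq_bot hp6.inList] at h2
  obtain ⟨x, hx⟩ := th_ker T h2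
  exact ⟨(fun i => b i.castSucc) * x, by rw [map_mul, mn6.τ_inj k (hx.trans hs)]⟩

theorem sep6 : Sep k (cartanOf chevE6 6) fun i => i = 0 ∨ i = 5 := by
  have hs : ∀ i j, cartanOf chevE6 6 i j = cartanOf chevE6 6 j i := by decide +kernel
  have hA : ∀ j, cartanOf chevE6 6 j = fun i : Fin 6 => cw6 j i.castSucc := fun j => funext (cw6_eq j)
  have h0 : ∀ x : Fin 6 → kˣ, (∀ j, chr (cartanOf chevE6 6 j) x = 1) → (∀ i, i = 0 ∨ i = 5 → x i = 1) → x = 1 := by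
    intro x h1 h2
    have a0 := h2 0 (.inl rfl)
    have a5 := h2 5 (.inr rfl)
    have a2 : x 2 = 1 := by simpa [hA, chr_apply, Fin.prod_univ_six, cw6, a0] using h1 0
    have a4 : x 4 = 1 := by simpa [hA, chr_apply, Fin.prod_univ_six, cw6, a5] using h1 5
    have a3 : x 3 = 1 := by simpa [hA, chr_apply, Fin.prod_univ_six, cw6, a0, a2] using h1 2
    have a1 : x 1 = 1 := by simpa [hA, chr_apply, Fin.prod_univ_six, cw6, a2, a3, a4] using h1 3
    funext i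
    fin_cases i
    exacts [a0, a1, a2, a3, a4, a5]
  have h1 : ∀ x : Fin 6 → kˣ, (∀ j, chr (cartanOf chevE6 6 j) x = 1) → (∀ i, ¬ (i = 0 ∨ i = 5) → x i = 1) → x = 1 := by
    intro x h1 h2
    have a1 := h2 1 (by decide)
    have a2 := h2 2 (by decide)
    have a3 := h2 3 (by decide)
    have a4 := h2 4 (by decide)
    have a0 : x 0 = 1 := by simpa [hA, chr_apply, Fin.prod_univ_six, cw6, a2, a3] using h1 2
    have a5 : x 5 = 1 := by simpa [hA, chr_apply, Fin.prod_univ_six, cw6, a3, a4] using h1 4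
    funext i
    fin_cases i
    exacts [a0, a1, a2, a3, a4, a5]
  have h2 : ∀ j, (fun i => cartanOf chevE6 6 i j) = cartanOf chevE6 6 j := fun j => funext fun i => hs i j
  exact ⟨h0, h1, fun x hx => h0 x fun j => h2 j ▸ hx j, fun x hx => h1 x fun j => h2 j ▸ hx j⟩

variable (hk : ∀ a : k, ∃ j, 0 < j ∧ a ^ 2 ^ j = a) {e : ℕ} (he : 0 < e) {α β : MulAut (GL (Fin 27) k)}
  {g g' : (Fin 6 → ℤ) → Fin 6 → ℤ} {B B' : Matrix (Fin 7) (Fin 7) ℤ}

/-- the model -/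
theorem md6 (S : mn6.Sy cs6 hc6 α g B) (hα : IsOfFinOrder α) {π : Fin 6 → Fin 6} (hπ : ∀ i, g (sr i) = sr (π i))
    (hT : ∀ H : Subgroup (GL (Fin 27) k), (∀ y ∈ mn6.G k cs6 hc6, (α * frA (Fin 27) k e) y = y → y ^ 2 = 1 → y ∈ H) →
      ∀ x : Fin 6 → kˣ, (∀ i, x (π i) = x i ^ 2 ^ e) → mn6.τ k (ct x) ∈ H)
    {X : Type} [Group X] {pr : O2 (GF (α * frA (Fin 27) k e) (mn6.G k cs6 hc6)) →* X} (h1 : Function.Surjective pr)
    (h2 : ∀ s, pr s = 1 ↔ s ∈ center _) : Md (mn6.datT hk he S hα) (io _ _) pr := by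
  have hG := good_of hk he S hα hπ
  obtain ⟨d, hd, E⟩ := emb_io hG.qs
  refine ⟨hG, ⟨d, hd, E⟩, h1, h2, fun y hy hy' => ?_⟩
  obtain ⟨s, _, ⟨⟨c, rfl⟩, ht⟩, rfl⟩ := E.split y hy
  refine mul_mem ⟨s, rfl⟩ ?_
  have h3 : io _ _ s ∈ (psi6 k).range := io_le (fun y hy j hj => by
    obtain ⟨m, hm, h⟩ := pow_mem_range hk hy.1
    exact mem_of_odd_pow hj hm h) s
  have h4 : Gd (mn6.datT hk he S hα) ≤ (psi6 k).range :=
    BNOf.RGD.Sup_le fun a ha _ ⟨u, hu⟩ => hu ▸ x_mem_range ha _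
  obtain ⟨x, rfl⟩ := tor_ct ((mul_mem_cancel_left h3).1 (h4 hy'))
  refine hT _ (fun y h5 h6 h7 => two_mem ⟨h5, h6⟩ (j := 1) h7) x fun i => ?_
  have h5 := (mn6.datT hk he S hα).F_τ (ct x)
  rw [show (α * frA (Fin 27) k e) ((mn6.datT hk he S hα).τ (ct x)) = _ from ht] at h5
  have h6 := (mn6.τ_inj k h5).trans (mon_cot (Sym.self hG.qs) x)
  have h7 := (fixT_iff (D := mn6.datT hk he S hα) (π := (mn6.datT hk he S hα).σ)
    (ε := fun i => (mn6.datT hk he S hα).ex (sr i)) (x := x)).2 (ct_inj (a₁ := x) h6).symm i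
  exact (congrArg x (Datum.QSp.σ_eq (D := mn6.datT hk he S hα) (π := π) hπ i)).symm.trans (Units.ext h7)

theorem sym6 (S : mn6.Sy cs6 hc6 α g B) (hα : IsOfFinOrder α) (S' : mn6.Sy cs6 hc6 β g' B') (hβ : IsOfFinOrder β)
    (hc : Commute β α) {π : Equiv.Perm (Fin 6)} (hπ : ∀ i, g' (sr i) = sr (π i)) :
    Sym (mn6.datT hk he S hα) (β * frA (Fin 27) k 1) (mn6.datT hk one_pos S' hβ).Mx π fun _ => 1 := by
  have h1 : Commute (β * frA (Fin 27) k 1) (α * frA (Fin 27) k e) := by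
    refine (hc.mul_right (S'.commute e)).mul_left ((S.commute 1).symm.mul_right ?_)
    rw [← mul_one e, ← frA_pow]
    exact Commute.self_pow _ _
  exact Sym.of_withF (D := mn6.datT hk he S hα) (mn6.datT hk one_pos S' hβ).amb g' (fun _ => 1)
    (mn6.datT hk one_pos S' hβ).g_root (mn6.datT hk one_pos S' hβ).F_x (mn6.datT hk one_pos S' hβ).F_τ
    (fun y => DFunLike.congr_fun h1.eq y) hπ fun _ => rfl

theorem lev_of {s : kˣ} (h : s = s ^ 2 ^ e) : (s : k) ∈ Ex.levF 2 k e := Ex.mem_levF.2 (congrArg Units.val h).symm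

theorem tor_split (H : Subgroup (GL (Fin 27) k))
    (hH : ∀ y ∈ mn6.G k cs6 hc6, (1 * frA (Fin 27) k e) y = y → y ^ 2 = 1 → y ∈ H) (x : Fin 6 → kˣ)
    (hx : ∀ i, x (id i) = x i ^ 2 ^ e) : mn6.τ k (ct x) ∈ H :=
  τ_ct_mem fun i => hw_mem (fun _ ha _ hu =>
    have h := E6c.single mn6.sy_one (root_pm ha) rfl (Ex.mem_levF.1 hu)
    hH _ h.1 h.2.1 h.2.2) (lev_of (hx i))

theorem tor_tw (H : Subgroup (GL (Fin 27) k))
    (hH : ∀ y ∈ mn6.G k cs6 hc6, (gm6 k * frA (Fin 27) k e) y = y → y ^ 2 = 1 → y ∈ H) (x : Fin 6 → kˣ)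
    (hx : ∀ i, x (H493.TwE6Alg.pi i) = x i ^ 2 ^ e) : mn6.τ k (ct x) ∈ H := by
  have h1 : ∀ i, H493.TwE6Alg.pi i = i → mn6.τ k (coch (mn6.cw i) (x i)) ∈ H := fun i hi =>
    hw_mem (fun a ha _ hu =>
      have h := E6c.single (sy6 k) (root_pm ha) (by
        rcases ha with rfl | rfl
        · rw [dua_sr, hi]
        · rw [map_neg, dua_sr, hi]) (Ex.mem_levF.1 hu)
      hH _ h.1 h.2.1 h.2.2) (lev_of (by rw [← hx i, hi]))
  have h2 := tw_mem hH (dua_sr 0) (by decide +kernel) (s := x 0) (by rw [← hx, ← hx]; rfl)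
  have h3 := tw_mem hH (dua_sr 2) (by decide +kernel) (s := x 2) (by rw [← hx, ← hx]; rfl)
  rw [← hx, ← map_mul] at h2 h3
  have h4 := mul_mem (mul_mem h2 h3) (mul_mem (h1 1 rfl) (h1 3 rfl))
  rw [← map_mul, ← map_mul, ← map_mul] at h4
  convert h4 using 2
  rw [ct_apply, Fin.prod_univ_six]
  change _ = coch (cw6 0) (x 0) * coch (cw6 5) (x 5) * (coch (cw6 2) (x 2) * coch (cw6 4) (x 4)) *
    (coch (cw6 1) (x 1) * coch (cw6 3) (x 3))
  ac_rfl

/-- the reflection of the diagram -/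
def piE : Equiv.Perm (Fin 6) := 
  Function.Involutive.toPerm H493.TwE6Alg.pi (show ∀ i, H493.TwE6Alg.pi (H493.TwE6Alg.pi i) = i by decide)

theorem gm6_sq : gm6 k ^ 2 = 1 := by
  refine MulEquiv.ext fun y => ?_
  have h1 : pi27 * pi27 = 1 := Equiv.ext piL_piL
  rw [sq, MulAut.mul_apply, MulAut.mul_apply, MulAut.mul_apply, MulAut.conj_apply, MulAut.conj_apply, map_mul, map_mul,
    map_inv, itA_pm, itA_itA, ← mul_assoc, ← mul_assoc, ← map_mul, mul_assoc, ← _root_.mul_inv_rev, ← map_mul, h1,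
    map_one, one_mul, inv_one, mul_one]
  rfl

end e6

end Cfsg.Agent.GAL.C2.RE

namespace Cfsg.Agent.GAL.C2

open Cfsg Cfsg.Lie Cfsg.Agent.ChevalleyStructure Cfsg.Agent.Nodes Cfsg.Agent.Nodes.RGDChev
  Cfsg.Agent.KFacts.RgdChevCoord Cfsg.Agent.GpExc.Field Cfsg.Agent.DL Cfsg.Agent.ODD.C2 Cfsg.Agent.ODD.C2.E6c
  Cfsg.Agent.GAL.C2.RE
open Cfsg.Agent.H493.TwE6Alg (dua dua_sr embT coe_embT)

attribute [local instance] finW6

variable (hB : Boxes) (F : Type) [Field F] [Fintype F] [CharP F 2]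
include hB

theorem box_E6 : Box ↥(chevE6.group F) := by
  obtain ⟨e, he, hF, _, hl⟩ := exists_setup F
  have hk := Ex.lf_of_locFin (p := 2) hl
  obtain ⟨θ, T⟩ := exists_th (AlgebraicClosure F)
  have O := Ex.over_E6 (algebraMap F (AlgebraicClosure F)) hF hp6
  have hZ := H70.OutCount.center_eq_bot (F := F) hp6.inList
  obtain ⟨pr, h1, h2⟩ := exists_pr (F := 1 * frA (Fin 27) (AlgebraicClosure F) e) (G := mn6.G _ cs6 hc6) (psi6 _) θ _
    O.inj (odd_gcd _) (fun y hy => O.mem_range.1 (O.pow_mem ⟨y, trivial, hy⟩)) T.ker T.cen (fun _ => pow_mem_range hk)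
    (compat mn6.sy_one T fun r _ u => Ex.frobA_xc hp6 e _ u) (fun H hH => by
      have h1 : chevE6.group F ≤ H.map (chevE6.group F).subtype := by
        rw [Elts.group_le_iff hp6.inList]
        intro r hr t
        have h := single (e := e) mn6.sy_one (root6 hr) rfl (u := algebraMap F (AlgebraicClosure F) t)
          (by rw [← map_pow, ← hF, FiniteField.pow_card])
        rw [← psi6_gen hr] at h
        exact ⟨xc hp6 (vec chevE6 6 r) t, hH _ _ h.1 h.2.1 h.2.2 (by rw [T.gen r hr, BpExc.TowChev.emb_xc]),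
          coe_xc hp6 hr t⟩
      refine eq_top_iff.2 fun y _ => ?_
      obtain ⟨z, hz, h2⟩ := h1 y.2
      rwa [← Subtype.ext h2]) hZ
  have hσ : (mn6.dat cs6 hc6 hk he).σ = 1 :=
    Equiv.ext (Datum.QSp.σ_eq (D := mn6.dat cs6 hc6 hk he) (π := id) fun _ => rfl)
  have s1 := sym6 hk he mn6.sy_one IsOfFinOrder.one mn6.sy_one IsOfFinOrder.one (Commute.refl _) (π := 1) fun _ => rfl
  have s2 := sym6 hk he mn6.sy_one IsOfFinOrder.one (sy6 _) (Mn.fin_pm_it _) (Commute.one_right _) (π := piE) dua_sr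
  have hc := (sy6 (AlgebraicClosure F)).commute 1
  refine hB.b2 (D := mn6.dat cs6 hc6 hk he) (P := fun i : Fin 6 => i = 0 ∨ i = 5) hZ
    ⟨md6 hk he mn6.sy_one IsOfFinOrder.one (π := id) (fun _ => rfl) tor_split h1 h2, Or.inl sep6, fun i => ?_,
      fun i => by rw [hσ]; rfl⟩ s1 s2 (stab_io fun _ => s1.mem_GF) (stab_io fun _ => s2.mem_GF) ?_ ?_
    (show piE * piE = 1 by decide) (show piE ≠ 1 by decide)
    (show ∀ i : Fin 6, (piE i = 0 ∨ piE i = 5) ↔ (i = 0 ∨ i = 5) by decide) (e := e) hσ (fun _ => rfl) (fun s => ?_)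
    ⟨_, odd_gcd (2 ^ e - 1), by rw [Nrm.card_out hZ, S2123.result 2 e hF]; ring⟩
  · rw [hσ]
    exact ⟨rfl, rfl⟩
  · rw [one_mul]
    exact hc.symm.mul_right (Commute.refl _)
  · rw [hc.mul_pow, gm6_sq, one_mul, one_mul]
  · have h3 := (io_mem s).2
    rw [one_mul, frA_pow, mul_one]
    exact h3

theorem box_tE6 {q : ℕ} (hq : IsPrimePow q) (hF : Fintype.card F = q ^ 2) : Box ↥(twistedE6 F q) := by
  obtain ⟨e, he, hqe, _, hl⟩ := exists_setup' F two_ne_zero hF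
  have hk := Ex.lf_of_locFin (p := 2) hl
  obtain ⟨θ, T⟩ := exists_th (AlgebraicClosure F)
  have O := Tw.emb_E6 (algebraMap F (AlgebraicClosure F)) hqe hq hF
  have hZ := Nrm.center_eq_bot (S1070.result hq hF).1 (S1070.result hq hF).2
  obtain ⟨pr, h1, h2⟩ := exists_pr (F := gm6 _ * frA (Fin 27) (AlgebraicClosure F) e) (G := mn6.G _ cs6 hc6) (psi6 _) θ _
    O.inj (odd_gcd _) (fun y hy => O.pow y ⟨trivial, hy⟩) T.ker T.cen (fun _ => pow_mem_range hk)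
    (compat (sy6 _) T fun r hr u => tau_xc hr u) (fun H hH => by
      have h1 : twistedE6 F q ≤ H.map (twistedE6 F q).subtype := by
        rw [TwE6Basic.twisted_le_iff]
        refine ⟨fun t ht r hr => ?_, fun t rs hr => ?_⟩
        · obtain ⟨h2, h4⟩ := tw_single r hr
          have h := single (e := e) (sy6 _) (root6 h2) h4 (u := algebraMap F (AlgebraicClosure F) t)
            (by rw [← map_pow, ← hqe, ht])
          rw [← psi6_gen h2] at h
          exact ⟨⟨_, TwE6Basic.single_mem ht hr⟩, hH _ _ h.1 h.2.1 h.2.2 (Subtype.ext (by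
            rw [T.gen r h2, coe_xc hp6 h2, coe_embT]
            exact (glMap_xG _ _ r t).symm)), rfl⟩
        · obtain ⟨h2, h4, h5, h6⟩ := tw_pair rs hr
          have h := pair (e := e) (root6 h2) (by rw [h5, cpr6 h4, h6]) (u := algebraMap F (AlgebraicClosure F) t)
            (by rw [← map_pow, ← map_pow, ← pow_mul, ← hqe, ← sq, ← hF, FiniteField.pow_card]) rfl
          rw [h5, ← psi6_gen h2, ← psi6_gen h4, ← map_mul] at h
          exact ⟨⟨_, TwE6Basic.pair_mem t hr⟩, hH _ _ h.1 h.2.1 h.2.2 (Subtype.ext (by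
            rw [map_mul, T.gen _ h2, T.gen _ h4, Subgroup.coe_mul, coe_xc hp6 h2, coe_xc hp6 h4, coe_embT, map_mul,
              glMap_xG, glMap_xG, map_pow, hqe])), rfl⟩
      refine eq_top_iff.2 fun y _ => ?_
      obtain ⟨z, hz, h2⟩ := h1 y.2
      rwa [← Subtype.ext h2]) hZ
  subst hqe
  have hσ : ⇑(mn6.datT hk he (sy6 (AlgebraicClosure F)) (Mn.fin_pm_it _)).σ = H493.TwE6Alg.pi :=
    funext (Datum.QSp.σ_eq (D := mn6.datT hk he (sy6 (AlgebraicClosure F)) (Mn.fin_pm_it _)) dua_sr)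
  have s1 := sym6 hk he (sy6 _) (Mn.fin_pm_it _) mn6.sy_one IsOfFinOrder.one (Commute.one_left _) (π := 1) fun _ => rfl
  have : Fact (Nat.Prime 2) := fact2
  refine hB.b1 (D := mn6.datT hk he (sy6 _) (Mn.fin_pm_it _)) (r := 1) (P := fun i : Fin 6 => i = 0 ∨ i = 5) hZ
    ⟨md6 hk he (sy6 _) (Mn.fin_pm_it _) dua_sr tor_tw h1 h2, Or.inl sep6, fun i => ⟨?_, rfl⟩, fun i => ?_⟩ s1
    (stab_io fun _ => s1.mem_GF) (e := e) (l := 2) (0 : Fin 6) (fun _ => rfl) ?_ (fun s => ?_)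
    ⟨_, odd_gcd (2 ^ e + 1), by
      rw [Nrm.card_out hZ, S2130.result 2 e (by rw [hF, ← pow_mul, mul_comm]) he]; ring⟩
  · rw [hσ]
    revert i
    show ∀ i : Fin 6, H493.TwE6Alg.pi (H493.TwE6Alg.pi i) = i
    decide
  · rw [hσ]
    revert i
    show ∀ i : Fin 6, (H493.TwE6Alg.pi i = 0 ∨ H493.TwE6Alg.pi i = 5) ↔ (i = 0 ∨ i = 5)
    decide
  · rw [hσ]
    exact Function.minimalPeriod_eq_prime (f := H493.TwE6Alg.pi) (x := 0) (by decide) (by decide)
  · have h3 := Mn.Sy.fix_le mn6 (sy6 (AlgebraicClosure F)) gm6_sq e (io_mem s).2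
    rw [one_mul, frA_pow, mul_one]
    exact h3

end Cfsg.Agent.GAL.C2
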