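import Cfsg.Agent.GAL.C2.Defs
import Cfsg.Agent.GAL.Nrm.Exc
import Cfsg.Agent.ODD.C2.Exc
import Cfsg.Agent.S1072
import Cfsg.Agent.S2121
import Cfsg.Agent.S2122
import Cfsg.Agent.S2124
import Cfsg.Agent.S2125
import Cfsg.Agent.S2128
import Cfsg.Agent.S2129

/-!
# S4617 / S4618, characteristic 2: the exceptional groups with trivial centre (helper6, GAL)

`box_G2` (`q ≥ 4`), `box_F4` (`q ≥ 4`), `box_E7`, `box_E8`, `box_tD4`, `box_tF4`, `box_iso2F4`.
-/

set_option autoImplicit false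
set_option maxHeartbeats 400000
set_option linter.unusedSectionVars false

namespace Cfsg.Agent.GAL.C2.RX

open CoxeterSystem Cfsg Cfsg.Lie Cfsg.Lie.ChevalleyDatum
open Cfsg.Agent.ChevalleyStructure Cfsg.Agent.ChevalleyStructure.Elts Cfsg.Agent.ChevalleyStructure.CoxeterGeom
  Cfsg.Agent.ChevalleyStructure.CoxeterGeomTypes Cfsg.Agent.ChevalleyStructure.NPerm
open Cfsg.Agent.Tits.Roots Cfsg.Agent.Tits.Core Cfsg.Agent.Nodes Cfsg.Agent.Nodes.Reps Cfsg.Agent.Nodes.BNOf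
  Cfsg.Agent.Nodes.RGDChev Cfsg.Agent.Nodes.Bruhat
open Cfsg.Agent.KFacts.RgdField Cfsg.Agent.KFacts.RgdChevCoord Cfsg.Agent.BpExc.TorChev
open Cfsg.Agent.GpExc.Field Cfsg.Agent.BpExc.Tow Cfsg.Agent.BpExc.TowChev Cfsg.Agent.BpExc.Fr
  Cfsg.Agent.BpExc.LangFr Cfsg.Agent.LangThm Cfsg.Agent.BpExc Cfsg.Agent.H129.TorusChar
open Cfsg.Agent.DL Cfsg.Agent.DL.PP Cfsg.Agent.DL.Ex Cfsg.Agent.DL.Tw Cfsg.Agent.ODD.C2

section gen

variable {k : Type} [Field k] [CharP k 2] {Y : Type} [Group Y] {N : Type} [Fintype N]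
  [DecidableEq N] {ρ : Y →* GL N k} {F : MulAut Y} {G : Subgroup Y} [IsAlgClosed k] {D : Datum 2 ρ F G}
  {X : Type} [Group X] {ι : X →* Y}

theorem range_of_emb {T : Subgroup Y} (h : Emb F G T ι 1) {y : Y} (hy : y ∈ GF F G) : y ∈ ι.range := by
  have h1 := h.pow y hy
  rwa [pow_one] at h1

theorem emb_of_over {T : Subgroup Y} (O : Over F G T ι 1) : Emb F G T ι 1 :=
  Emb.of_surj O.inj O.mem fun _ hy => O.range_eq ▸ hy

/-- the model if `X = G^F` has trivial centre -/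
theorem md_of_emb (hG : Good D) (h : Emb F G D.T ι 1) (hZ : Subgroup.center X = ⊥) : Md D ι (MonoidHom.id X) where
  good := hG
  emb := ⟨1, odd_one, h⟩
  surj := Function.surjective_id
  ker s := by rw [hZ, Subgroup.mem_bot, MonoidHom.id_apply]
  sc := sc_of_surj fun _ hy => range_of_emb h hy

theorem stab_of_emb (h : Emb F G D.T ι 1) {α : MulAut Y} {A : Matrix D.R D.R ℤ} {π : Equiv.Perm D.I} {ε : D.I → ℕ}
    (hα : Sym D α A π ε) (s : X) : α (ι s) ∈ ι.range :=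
  range_of_emb h (hα.mem_GF (h.mem s))

theorem count [Finite X] (hZ : Subgroup.center X = ⊥) {n : ℕ} (h : Nat.card (Out X) = n) :
    ∃ m, Odd m ∧ Nat.card (MulAut X) = Nat.card X * n * m :=
  ⟨1, odd_one, by rw [Nrm.card_out hZ, h, mul_one, mul_comm]⟩

end gen

section chev

variable {D : ChevalleyDatum} {l : ℕ} {M : CoxeterMatrix (Fin l)} {k : Type} [Field k] [CharP k 2] [IsAlgClosed k]

theorem sep_chev {m : ℕ} {B : Fin l → Fin l → ℤ} (h : InvC D l (2 ^ m) B) (P : Fin l → Prop) :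
    Sep k (cartanOf D l) P := by
  refine sep_of_inv (m := m) (Matrix.of B) ?_ P
  ext i j
  rw [Matrix.mul_apply, Matrix.smul_apply, Matrix.one_apply, smul_eq_mul, mul_ite, mul_one, mul_zero]
  have h1 := h i j
  rwa [Nat.cast_pow, Nat.cast_ofNat] at h1

theorem frobA_add (hD : InList D) (a b : ℕ) (y : ↥(D.group k)) :
    frobA hD 2 a (frobA hD 2 b y) = frobA hD 2 (a + b) y := by
  rw [frobA_apply, frobA_apply, frobA_apply, emb_comp, iterateFrobenius_add]

theorem frobA_pow (hp : IsType D l M) (n : ℕ) (y : ↥(D.group k)) :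
    (frobA hp.inList 2 1 ^ n) y = frobA hp.inList 2 n y := by
  induction n with
  | zero =>
    have h : (frobA (k := k) hp.inList 2 0).toMonoidHom = MonoidHom.id _ :=
      hom_ext hp fun r _ t => by simpa using frobA_xc hp 0 (vec D l r) t
    exact (DFunLike.congr_fun h y).symm
  | succ n ih => rw [pow_succ', MulAut.mul_apply, ih, frobA_add, add_comm]

theorem frobA_emb (hD : InList D) {K : Type} [Field K] [Fintype K] (f : K →+* k) {e : ℕ}
    (hK : Fintype.card K = 2 ^ e) (s : ↥(D.group K)) : frobA hD 2 e (emb hD f s) = emb hD f s :=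
  Emb.emb_fix hD (frob_card hK) (σ := frobA hD 2 e) (fun _ => rfl) s

variable (hp : IsType D l M) (hk : LocFin k) {e : ℕ} (he : 0 < e)

theorem σ_chev : (chev (p := 2) hp hk he).σ = 1 :=
  Equiv.ext (Datum.QSp.σ_eq (D := chev (p := 2) hp hk he) (π := id) fun _ => rfl)

theorem sym_chev : Sym (chev (p := 2) hp hk he) (frobA hp.inList 2 1) (chev (p := 2) hp hk one_pos).Mx 1 fun _ => 1 :=
  Sym.of_withF (D := chev (p := 2) hp hk he) (chev (p := 2) hp hk one_pos).amb (chev (p := 2) hp hk one_pos).g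
    (chev (p := 2) hp hk one_pos).ex (chev (p := 2) hp hk one_pos).g_root (chev (p := 2) hp hk one_pos).F_x
    (chev (p := 2) hp hk one_pos).F_τ (fun y => by rw [frobA_add, frobA_add, add_comm]) (fun _ => rfl) fun _ => rfl

theorem emb_chev {m : ℕ} {B : Fin l → Fin l → ℤ} (h : InvC D l (2 ^ m) B) {K : Type} [Field K] [Fintype K]
    (f : K →+* k) (hK : Fintype.card K = 2 ^ e) :
    Emb (frobA hp.inList 2 e) ⊤ (chev (p := 2) hp hk he).T (emb hp.inList f) 1 := by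
  have h1 := over_split hp f hK h
  rw [Nat.Coprime.pow_left m (Mn.odd_two_pow_sub_one he).coprime_two_left] at h1
  exact emb_of_over h1

theorem sit_chev {m : ℕ} {B : Fin l → Fin l → ℤ} (h : InvC D l (2 ^ m) B) (hG : Good (chev (p := 2) hp hk he))
    {K : Type} [Field K] [Fintype K] (f : K →+* k) (hK : Fintype.card K = 2 ^ e) (r : Equiv.Perm (Fin l)) :
    Sit (chev (p := 2) hp hk he) (emb hp.inList f) (MonoidHom.id _) r fun _ => True where
  md := md_of_emb hG (emb_chev hp hk he h f hK) (H70.OutCount.center_eq_bot hp.inList)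
  br := Or.inl (sep_chev h _)
  cr i := by
    rw [σ_chev]
    exact ⟨rfl, rfl⟩
  st _ := Iff.rfl

/-- the split groups with field automorphisms only -/
theorem box_split (hB : Boxes) {m : ℕ} {B : Fin l → Fin l → ℤ} (h : InvC D l (2 ^ m) B) (j : Fin l)
    (hG : Good (chev (p := 2) hp hk he)) {K : Type} [Field K] [Fintype K] (f : K →+* k)
    (hK : Fintype.card K = 2 ^ e) (hO : Nat.card (Out ↥(D.group K)) = e) : Box ↥(D.group K) := by
  have hZ := H70.OutCount.center_eq_bot (F := K) hp.inList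
  refine hB.b1 hZ (sit_chev hp hk he h hG f hK 1) (sym_chev hp hk he)
    (stab_of_emb (emb_chev hp hk he h f hK) (sym_chev hp hk he)) (e := e) (l := 1) j (fun _ => rfl) ?_ (fun s => ?_)
    (count hZ (by rw [hO, one_mul]))
  · rw [σ_chev]
    exact Function.minimalPeriod_id
  · rw [one_mul, frobA_pow hp, frobA_emb _ f hK]

end chev

section twisted

variable {k : Type} [Field k] [CharP k 2] [IsAlgClosed k] (hk : LocFin k)

/-- the reflection of the diagram of `F₄` -/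
def rvE : Equiv.Perm (Fin 4) := Function.Involutive.toPerm H493.F4Tor.rv H493.F4Tor.rv_rv

theorem sym_F4 {e : ℕ} (he : 0 < e) :
    Sym (chev (p := 2) tyF4 hk he) (steA k 0) (datF4 hk 0).Mx rvE (![1, 1, 0, 0] : Fin 4 → ℕ) :=
  Sym.of_withF (D := chev (p := 2) tyF4 hk he) (datF4 hk 0).amb (datF4 hk 0).g (datF4 hk 0).ex (datF4 hk 0).g_root
    (datF4 hk 0).F_x (datF4 hk 0).F_τ
    (fun y => Spc.emb_comm (iterateFrobenius k 2 e) (spc_ste k 0) (spc_F4 0) y) (qs_F4 hk 0) (ex_F4 hk 0)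

theorem steA_pow (n : ℕ) (y : ↥(chevF4.group k)) : (steA k 0 ^ (2 * n)) y = frobA tyF4.inList 2 n y := by
  have h : steA k 0 ^ 2 = frobA tyF4.inList 2 1 := MulEquiv.ext fun y => (spc_F4 0).sq (spcD_F4 0) y
  rw [pow_mul, h, frobA_pow tyF4]

theorem σ_tF4 (m : ℕ) : (datF4 hk m).σ = rvE := Equiv.ext (qs_F4 hk m).σ_eq

theorem frob_tau (e : ℕ) (y : ↥(chevD4.group k)) :
    frobA RGDTwD4.hp.inList 2 1 (H129.TriD4.tau k 2 e y) = H129.TriD4.tau k 2 e (frobA RGDTwD4.hp.inList 2 1 y) := by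
  have h : (frobA RGDTwD4.hp.inList 2 1).toMonoidHom.comp (H129.TriD4.tau k 2 e).toMonoidHom =
      (H129.TriD4.tau k 2 e).toMonoidHom.comp (frobA RGDTwD4.hp.inList 2 1).toMonoidHom := by
    refine hom_ext RGDTwD4.hp fun r hr t => ?_
    obtain ⟨s, hs, c, h⟩ : ∃ s < chevD4.nroots, ∃ c : ℤ, ∀ t : k, H129.TriD4.tau k 2 e (xc RGDTwD4.hp (vec chevD4 4 r) t) =
        xc RGDTwD4.hp (vec chevD4 4 s) (c * t ^ 2 ^ e) := by
      have h0 : (EmbInst.rh ⟨r, hr⟩).val < chevD4.nroots := (EmbInst.rh ⟨r, hr⟩).2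
      refine ⟨_, h0, EmbInst.ed ⟨r, hr⟩, fun t => Subtype.ext ?_⟩
      rw [H129.TriD4.coe_tau, coe_xc RGDTwD4.hp hr, coe_xc RGDTwD4.hp h0, ← iterateFrobenius_def]
      exact EmbInst.sig_ed (iterateFrobenius k 2 e) ⟨r, hr⟩ t
    show frobA _ 2 1 (H129.TriD4.tau k 2 e _) = H129.TriD4.tau k 2 e (frobA _ 2 1 _)
    rw [h, frobA_xc, frobA_xc, h, mul_pow, ← iterateFrobenius_def 2 1 (c : k), map_intCast, pow_right_comm]
  exact DFunLike.congr_fun h y

theorem sym_tD4 {e : ℕ} (he : 0 < e) :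
    Sym (datD4 (p := 2) hk he) (frobA RGDTwD4.hp.inList 2 1) (chev (p := 2) RGDTwD4.hp hk one_pos).Mx 1 fun _ => 1 :=
  Sym.of_withF (D := datD4 (p := 2) hk he) (chev (p := 2) RGDTwD4.hp hk one_pos).amb
    (chev (p := 2) RGDTwD4.hp hk one_pos).g (chev (p := 2) RGDTwD4.hp hk one_pos).ex
    (chev (p := 2) RGDTwD4.hp hk one_pos).g_root (chev (p := 2) RGDTwD4.hp hk one_pos).F_x
    (chev (p := 2) RGDTwD4.hp hk one_pos).F_τ (frob_tau e) (fun _ => rfl) fun _ => rfl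

theorem σ_tD4 {e : ℕ} (he : 0 < e) : ⇑(datD4 (p := 2) hk he).σ = piD4 := funext (qs_D4 hk he).σ_eq

end twisted

end Cfsg.Agent.GAL.C2.RX

namespace Cfsg.Agent.GAL.C2

open Cfsg Cfsg.Lie Cfsg.Agent.Nodes Cfsg.Agent.H129.TorusChar
open Cfsg.Agent.DL Cfsg.Agent.DL.Ex Cfsg.Agent.DL.Tw Cfsg.Agent.ODD.C2 Cfsg.Agent.GAL.C2.RX

section rows

variable (hB : Boxes) (F : Type) [Field F] [Fintype F] [CharP F 2]

include hB

theorem box_G2 (h : 3 ≤ Fintype.card F) : Box ↥(chevG2.group F) := by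
  obtain ⟨e, he, hF, _, hk⟩ := exists_setup F
  exact box_split tyG2 hk he hB (m := 0) invC_G2 0 (good_G2 hk he (two_le_of F he hF (by omega))) (algebraMap F _) hF
    (by rw [S2121.result 2 e hF (hF ▸ h), if_neg (by decide)])

theorem box_E7 : Box ↥(chevE7.group F) := by
  obtain ⟨e, he, hF, _, hk⟩ := exists_setup F
  exact box_split tyE7 hk he hB (m := 1) invC_E7 0 (good_E7 hk he) (algebraMap F _) hF
    (by rw [S2124.result 2 e hF, (Mn.odd_two_pow_sub_one he).coprime_two_left, one_mul])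

theorem box_E8 : Box ↥(chevE8.group F) := by
  obtain ⟨e, he, hF, _, hk⟩ := exists_setup F
  exact box_split tyE8 hk he hB (m := 0) invC_E8 0 (good_E8 hk he) (algebraMap F _) hF (S2125.result 2 e hF)

theorem box_F4 (h : Fintype.card F ≠ 2) : Box ↥(chevF4.group F) := by
  obtain ⟨e, he, hF, _, hk⟩ := exists_setup F
  have hZ := H70.OutCount.center_eq_bot (F := F) tyF4.inList
  refine hB.b3 hZ
    (sit_chev tyF4 hk he (m := 0) invC_F4 (good_F4 hk he (two_le_of F he hF h)) (algebraMap F _) hF rvE)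
    (sym_F4 hk he) (stab_of_emb (emb_chev tyF4 hk he (m := 0) invC_F4 (algebraMap F _) hF) (sym_F4 hk he))
    (show rvE * rvE = 1 by decide) (show rvE ≠ 1 by decide)
    (show ∀ i : Fin 4, (![1, 1, 0, 0] : Fin 4 → ℕ) i + (![1, 1, 0, 0] : Fin 4 → ℕ) (rvE i) = 1 by decide)
    (fun _ => Iff.rfl) (e := e) (σ_chev tyF4 hk he) (fun _ => rfl) (fun s => ?_) (count hZ (S2122.result 2 e hF))
  rw [steA_pow, frobA_emb _ _ hF]

theorem box_tD4 {q : ℕ} (hq : IsPrimePow q) (hF : Fintype.card F = q ^ 3) : Box ↥(twistedD4 F q) := by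
  obtain ⟨e, he, rfl, _, hk⟩ := exists_setup' F three_ne_zero hF
  have hF' : Fintype.card F = 2 ^ (3 * e) := by rw [hF, ← pow_mul, mul_comm]
  have hZ := H69.OutTwD4.center_eq_bot hq hF
  have hE := emb_D4 (algebraMap F (AlgebraicClosure F)) rfl hq hF
  have : Fact (Nat.Prime 3) := ⟨Nat.prime_three⟩
  refine hB.b1 (D := datD4 (p := 2) hk he) (r := (Equiv.swap 2 3 : Equiv.Perm (Fin 4))) (P := fun _ => True) hZ
    ⟨md_of_emb (good_tD4 hk he) hE hZ, Or.inl (sep_chev (m := 1) invC_D4 _), fun i => ⟨?_, rfl⟩, fun _ => Iff.rfl⟩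
    (sym_tD4 hk he) (stab_of_emb (D := datD4 (p := 2) hk he) hE (sym_tD4 hk he)) (e := e) (l := 3) (0 : Fin 4)
    (fun _ => rfl) ?_ (fun s => ?_) (count hZ (S2129.result 2 e hF' he))
  · rw [σ_tD4]
    revert i
    show ∀ i : Fin 4, piD4 (Equiv.swap 2 3 (piD4 i)) = Equiv.swap 2 3 i
    decide
  · rw [σ_tD4]
    exact Function.minimalPeriod_eq_prime (f := piD4) (x := 0) (by decide) (by decide)
  · rw [frobA_pow RGDTwD4.hp]
    exact frobA_emb _ _ hF' _

omit [CharP F 2] in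
theorem box_tF4 {m : ℕ} (hm : 1 ≤ m) (hF : Fintype.card F = 2 ^ (2 * m + 1)) : Box ↥(twistedF4 F (2 ^ m)) := by
  obtain ⟨_, _, hk⟩ := setup' Nat.prime_two (by omega) hF
  have hZ := Nrm.center_eq_bot (S1072.result hm hF).1 (S1072.result hm hF).2
  refine hB.b0 (D := datF4 hk m) (r := rvE) (P := fun _ => True) hZ
    ⟨md_of_emb (good_tF4 hk hm) (emb_F4 (algebraMap F _) hF) hZ, Or.inl (sep_chev (m := 0) invC_F4 _), fun i => ?_,
      fun _ => Iff.rfl⟩ ⟨2 * m + 1, ⟨m, rfl⟩, by rw [Nrm.card_out hZ, S2128.result hm hF, mul_comm]⟩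
  rw [σ_tF4]
  have h : rvE (rvE i) = i := H493.F4Tor.rv_rv i
  exact ⟨congrArg rvE h, congrArg (fun j => (datF4 hk m).ex (Tits.Roots.sr j)) h⟩

end rows

theorem box_iso2F4 (hB : Boxes) {S : Type} [Group S] [Finite S] (h : Lie.Iso2F4 S) : Box S := by
  obtain ⟨F, _, _, m, hm, hF, ⟨e⟩⟩ := h
  exact Box.congr e (box_tF4 hB F hm hF)

end Cfsg.Agent.GAL.C2
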